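import Cfsg.Agent.Mult.Wrap

set_option autoImplicit false
set_option maxRecDepth 100000

/-!
Schur multipliers of the simply laced Chevalley groups E6, E7, E8.
-/

namespace Cfsg.Agent.Mult

open Cfsg Cfsg.Lie Cfsg.Agent.Chev Cfsg.Agent.Steinb Cfsg.Agent.ChevGrp
open scoped commutatorElement

universe u

lemma slData_E6 : SLData chevE6 := ⟨sl_of_chk good1_E6 chkSL_E6, ⟨_, chkC_E6⟩, ⟨_, _, _, _, chkD_E6⟩⟩
lemma slData_E7 : SLData chevE7 := ⟨sl_of_chk good1_E7 chkSL_E7, ⟨_, chkC_E7⟩, ⟨_, _, _, _, chkD_E7⟩⟩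
lemma slData_E8 : SLData chevE8 := ⟨sl_of_chk good1_E8 chkSL_E8, ⟨_, chkC_E8⟩, ⟨_, _, _, _, chkD_E8⟩⟩

/-- every node has a neighbour -/
def Adj (D : ChevalleyDatum) : Prop := ∀ i < D.rank, ∃ j < D.rank, D.cartan j (D.simple i) = -1

lemma adj_E6 : Adj chevE6 := by unfold Adj; decide +kernel
lemma adj_E7 : Adj chevE7 := by unfold Adj; decide +kernel
lemma adj_E8 : Adj chevE8 := by unfold Adj; decide +kernel

theorem SLData.hlift {D : ChevalleyDatum} (S : SLData D) (hD : D ∈ data) (hadj : Adj D) {F : Type*} [Field F] [Finite F]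
    {Γ : Type*} [Group Γ] (σ : Γ →* ↥(D.group F)) (C : CE σ) : ∃ P : PreSt (good_of_mem hD) F Γ,
      P.θ = (D.group F).subtype.comp σ ∧
        ∀ r < D.nroots, ∀ t u : F, t ≠ 0 → u ≠ 0 → P.hr r t * P.hr r u = P.hr r (t * u) := by
  obtain ⟨P, hP⟩ := S.exists_pre (good_of_mem hD) C
  refine ⟨P, hP, R3_adj (sp_of_mem hD) ?_ hadj⟩
  intro x hx
  have h1 : (D.group F).subtype (σ x) = 1 := by
    rw [MonoidHom.mem_ker, hP] at hx; exact hx
  exact C.2 (Subtype.ext h1)

lemma exists_equiv {G : Type*} [Group G] {n : ℕ} (hn : Nat.card (Subgroup.center G) = n) (h : n = 1 ∨ n.Prime) :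
    Nonempty (Multiplicative (ZMod n) ≃* Subgroup.center G) := by
  have h0 : NeZero n := ⟨by rcases h with h | h; exacts [by omega, h.pos.ne']⟩
  have hc : Nat.card (Multiplicative (ZMod n)) = n := by simp
  rcases h with h | h
  · have : Subsingleton (Subgroup.center G) := (Nat.card_eq_one_iff_unique.1 (hn.trans h)).1
    have h2 : IsCyclic (Subgroup.center G) := isCyclic_of_subsingleton
    exact ⟨mulEquivOfCyclicCardEq (hc.trans hn.symm)⟩
  · have : Fact n.Prime := ⟨h⟩
    have h2 : IsCyclic (Subgroup.center G) := isCyclic_of_prime_card hn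
    exact ⟨mulEquivOfCyclicCardEq (hc.trans hn.symm)⟩

theorem SLData.multiplier {D : ChevalleyDatum} (S : SLData D) (hD : D ∈ data) (hadj : Adj D) {F : Type u} [Field F] [Finite F]
    {n : ℕ} (hn : Nat.card (Subgroup.center (D.SteinbergGroup F)) = n) (h : n = 1 ∨ n.Prime) :
    HasCyclicSchurMultiplier ↥(D.group F) n := by
  obtain ⟨e⟩ := exists_equiv hn h
  have hfin : Finite (Subgroup.center (D.SteinbergGroup F)) :=
    Nat.finite_of_card_ne_zero (by rcases h with h | h; exacts [by omega, by have := h.pos; omega])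
  refine hasSchurMultiplier_of hD hfin ?_ (fun Γ _ σ C => S.hlift hD hadj σ C) e
  exact S.perfect (good_of_mem hD) (preOf (good_of_mem hD) (D.steinbergRels F) (relsAB_sub D F) (fX_rels (good_of_mem hD)))
    (preOf_gen (good_of_mem hD) (D.steinbergRels F) _ _)

end Cfsg.Agent.Mult
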