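import Cfsg.Agent.Mult.Wrap
import Cfsg.Agent.Steinb.Uni

set_option autoImplicit false
set_option maxRecDepth 100000

/-!
Steinberg groups of types E6 and E7 inside the one of type E8; their centres.
-/

namespace Cfsg.Agent.Mult

open Cfsg Cfsg.Lie Cfsg.Agent.Chev Cfsg.Agent.Steinb Cfsg.Agent.ChevGrp

/-- embedding of roots from a packed table -/
def ioP (P r : ℕ) : ℕ := Nat.mod (Nat.div P (Nat.pow 256 r)) 256

/-- comparison of chain entries -/
def entEq (P : ℕ) : List (ℕ × ℤ) → List (ℕ × ℤ) → Bool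
  | [], [] => true
  | a :: l, b :: l' => Nat.beq a.1 (ioP P b.1) && (zeq a.2 b.2 && entEq P l l')
  | _, _ => false

/-- check of one row -/
def rowOK (D : ChevalleyDatum) (P Q r : ℕ) : Bool :=
  ((D.chain.getD r #[]).toList.all fun e => entEq P (chevE8.chainEntry (ioP P r) (ioP P e.1)) e.2.toList) &&
  ((chevE8.chain.getD (ioP P r) #[]).toList.all fun e => !(Nat.blt (ioP Q e.1) D.nroots && Nat.beq (ioP P (ioP Q e.1)) e.1) ||
    (D.chain.getD r #[]).toList.any fun e' => Nat.beq e'.1 (ioP Q e.1))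

/-- check of the embedding -/
def chkEmb (D : ChevalleyDatum) (P Q : ℕ) : Bool :=
  (allN D.rank fun i => Nat.beq (ioP P (D.simple i)) (chevE8.simple i)) &&
  (allN D.nroots fun r => Nat.blt (ioP P r) 240 && (Nat.beq (ioP P (Nat.sub (Nat.sub D.nroots 1) r)) (Nat.sub 239 (ioP P r)) &&
    (Nat.beq (ioP Q (ioP P r)) r && rowOK D P Q r)))

def PE6 : ℕ := 197826344582926165870947970743180924148311991970668180805546008227381352219946377108106560900955329900548830782003492134775948981394880634343157650874801381242681034812894499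
def PE7 : ℕ := 2430810997004866598444401240238742686892022899567541319682954425287167460260763023210395046641608905787741593400045937092517025071470630088513929100882265937055017271469174884988986077504446333275414838194854552575824525579080592657593264928194488327118387149962421491912665312065144265886464730302321677

def QE6 : ℕ := 94971145180789141405469863695884969990692470634685116742800956330585166286696033875070649917381778932497230817902768567287660696095192716880093765958204008625562299434129392025568651226847665488369042470013021211122982100710529268080208250812497322493454837062303729851255233428442615647304826696253754391326692050277358936715485687624574331939391221788563136075920161908426962725179974124178777394970421273460436320550997404270075489329784403296587705456492990887495455848903572302864830560773787086408021292911816925807590351790160470460273711448334726617069909618870286548991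
def QE7 : ℕ := 94971145180789141405469863695882592189651837053317630090305970097723726928220855276537264273582720901795719781923438737209119076383973151172524946143289888101117976579553075303961523257073382837690418109135098931602851134627985481181185284299640172221893579475647845501626125090699337449574353006138624959433112088772764743249392357918169845790177919089594023925985876918835578042417112354369316606683980359793222213560111503140449439510658338859959876477278378166661357383526863473591178255612439519660919789858209998716290908623238031653677349343739506166654190222024130953215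

theorem chkEmb_E6 : chkEmb chevE6 PE6 QE6 = true := by decide +kernel
theorem chkEmb_E7 : chkEmb chevE7 PE7 QE7 = true := by decide +kernel

/-- properties of the embedding -/
structure EmbOK (D : ChevalleyDatum) (io : ℕ → ℕ) : Prop where
  simple : ∀ i < D.rank, io (D.simple i) = chevE8.simple i
  lt : ∀ r < D.nroots, io r < chevE8.nroots
  neg : ∀ r < D.nroots, io (D.neg r) = chevE8.neg (io r)
  ne : ∀ r < D.nroots, ∀ s < D.nroots, s ≠ r → s ≠ D.neg r → io s ≠ io r ∧ io s ≠ chevE8.neg (io r)
  terms : ∀ r < D.nroots, ∀ s < D.nroots, s ≠ r → s ≠ D.neg r →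
    chevE8.commTerms (io r) (io s) = (D.commTerms r s).map fun c => (io c.1, c.2)

lemma entEq_iff {P : ℕ} : ∀ {l l' : List (ℕ × ℤ)}, entEq P l l' = true → l = l'.map fun q => (ioP P q.1, q.2)
  | [], [], _ => rfl
  | a :: l, b :: l', h => by
      unfold entEq at h
      rw [Bool.and_eq_true, Bool.and_eq_true] at h
      rw [List.map_cons, ← entEq_iff h.2.2, ← Nat.eq_of_beq_eq_true h.1, ← zeq_iff h.2.1]
  | [], _ :: _, h => by simp [entEq] at h
  | _ :: _, [], h => by simp [entEq] at h

lemma emb_of_chk {D : ChevalleyDatum} (H : Good1 D) (S : SL D) (S8 : SL chevE8) {P Q : ℕ} (h : chkEmb D P Q = true) :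
    EmbOK D (ioP P) := by
  unfold chkEmb at h
  rw [Bool.and_eq_true] at h
  obtain ⟨h1, h2⟩ := h
  have hlt : ∀ r < D.nroots, ioP P r < 240 := fun r hr => by
    have := allN_imp h2 hr
    rw [Bool.and_eq_true] at this
    exact blt_lt this.1
  have hneg : ∀ r < D.nroots, ioP P (D.neg r) = chevE8.neg (ioP P r) := by
    intro r hr
    have := allN_imp h2 hr
    rw [Bool.and_eq_true, Bool.and_eq_true] at this
    have h3 := Nat.eq_of_beq_eq_true this.2.1
    rw [H.neg_eq r hr, good1_E8.neg_eq _ (hlt r hr)]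
    exact h3
  have hinv : ∀ r < D.nroots, ioP Q (ioP P r) = r := by
    intro r hr
    have := allN_imp h2 hr
    rw [Bool.and_eq_true, Bool.and_eq_true, Bool.and_eq_true] at this
    exact Nat.eq_of_beq_eq_true this.2.2.1
  have hinj : ∀ r < D.nroots, ∀ s < D.nroots, ioP P s = ioP P r → s = r := by
    intro r hr s hs e
    rw [← hinv r hr, ← hinv s hs, e]
  have hrow : ∀ r < D.nroots, rowOK D P Q r = true := by
    intro r hr
    have := allN_imp h2 hr
    rw [Bool.and_eq_true, Bool.and_eq_true, Bool.and_eq_true] at this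
    exact this.2.2.2
  have hchain : ∀ r < D.nroots, ∀ s < D.nroots, chevE8.chainEntry (ioP P r) (ioP P s) =
      (D.chainEntry r s).map fun q => (ioP P q.1, q.2) := by
    intro r hr s hs
    have h3 := hrow r hr
    unfold rowOK at h3
    rw [Bool.and_eq_true, List.all_eq_true, List.all_eq_true] at h3
    obtain ⟨h3, h4⟩ := h3
    have hD : D.chainEntry r s = match (D.chain.getD r #[]).toList.find? (fun e => e.1 = s) with
      | none => []
      | some e => e.2.toList := rfl
    rw [hD]
    cases hf : (D.chain.getD r #[]).toList.find? (fun e => e.1 = s) with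
    | some e =>
      have he := List.find?_some hf
      simp only [decide_eq_true_eq] at he
      have h5 := entEq_iff (h3 e (List.mem_of_find?_eq_some hf))
      rw [he] at h5
      exact h5
    | none =>
      simp only [List.map_nil]
      have h8 : chevE8.chainEntry (ioP P r) (ioP P s) = match (chevE8.chain.getD (ioP P r) #[]).toList.find? (fun e => e.1 = ioP P s) with
        | none => []
        | some e => e.2.toList := rfl
      rw [h8]
      cases hf8 : (chevE8.chain.getD (ioP P r) #[]).toList.find? (fun e => e.1 = ioP P s) with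
      | none => rfl
      | some e8 =>
        exfalso
        have he := List.find?_some hf8
        simp only [decide_eq_true_eq] at he
        have h5 := h4 e8 (List.mem_of_find?_eq_some hf8)
        rw [he, hinv s hs, Bool.or_eq_true, List.any_eq_true] at h5
        rcases h5 with h5 | ⟨e', he', h6⟩
        · rw [Bool.not_eq_true', ← Bool.not_eq_true, Bool.and_eq_true] at h5
          exact h5 ⟨Nat.ble_eq_true_of_le hs, Nat.beq_eq ▸ rfl⟩
        · have h7 := List.find?_eq_none.1 hf e' he'
          simp only [decide_eq_true_eq] at h7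
          exact h7 (Nat.eq_of_beq_eq_true h6)
  refine ⟨fun i hi => Nat.eq_of_beq_eq_true (allN_imp h1 hi), hlt, hneg, fun r hr s hs hne hnn => ⟨?_, ?_⟩, fun r hr s hs _ _ => ?_⟩
  · intro e
    exact hne (hinj r hr s hs e)
  · rw [← hneg r hr]
    intro e
    exact hnn (hinj _ (neg_lt H hr) s hs e)
  · have h3 := hchain r hr s hs
    rcases S.terms r s with ⟨h4, h5⟩ | ⟨k, M, -, h4, h5⟩
    · rcases S8.terms (ioP P r) (ioP P s) with ⟨h6, h7⟩ | ⟨k', M', -, h6, h7⟩
      · rw [h5, h7]; rfl
      · rw [h4, h6] at h3; simp at h3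
    · rcases S8.terms (ioP P r) (ioP P s) with ⟨h6, h7⟩ | ⟨k', M', -, h6, h7⟩
      · rw [h4, h6] at h3; simp at h3
      · rw [h4, h6] at h3
        simp only [List.map_cons, List.map_nil, List.cons.injEq, Prod.mk.injEq, and_true] at h3
        rw [h5, h7, h3.1, h3.2]; rfl

section

variable {D : ChevalleyDatum} {F : Type*} [Field F] {Γ : Type*} [Group Γ]

/-- evaluation -/
noncomputable def evX (x : ℕ → F → Γ) : FreeGroup (Fin D.nroots × F) →* Γ := FreeGroup.lift fun p => x p.1 p.2

lemma evX_stX (x : ℕ → F → Γ) {r : ℕ} (hr : r < D.nroots) (t : F) : evX (D := D) x (D.stX r t) = x r t := by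
  simp [evX, ChevalleyDatum.stX, hr]

lemma evX_word (x : ℕ → F → Γ) : ∀ w : List (ℕ × F), (∀ p ∈ w, p.1 < D.nroots) →
    evX (D := D) x (D.stWord w) = (w.map fun p => x p.1 p.2).prod
  | [], _ => by simp [ChevalleyDatum.stWord]
  | p :: w, h => by
      have h1 : D.stWord (p :: w) = D.stX p.1 p.2 * D.stWord w := by simp [ChevalleyDatum.stWord]
      rw [h1, map_mul, evX_stX x (h p (by simp)), evX_word x w (fun q hq => h q (by simp [hq])), List.map_cons,
        List.prod_cons]

/-- homomorphism from the Steinberg group -/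
theorem exists_hom_raw (H : Good D) (x : ℕ → F → Γ) (add : ∀ r < D.nroots, ∀ t u : F, x r t * x r u = x r (t + u))
    (comm : ∀ r < D.nroots, ∀ s < D.nroots, s ≠ r → s ≠ D.neg r → ∀ t u : F,
      (x s u)⁻¹ * (x r t)⁻¹ * x s u * x r t = ((D.commWord F r s t u).map fun p => x p.1 p.2).prod)
    (h3 : ∀ r < D.nroots, ∀ t u : F, t ≠ 0 → u ≠ 0 →
      (x r t * x (D.neg r) (-t⁻¹) * x r t * (x r (-1) * x (D.neg r) (-(-1)⁻¹) * x r (-1))) *
      (x r u * x (D.neg r) (-u⁻¹) * x r u * (x r (-1) * x (D.neg r) (-(-1)⁻¹) * x r (-1))) =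
      x r (t * u) * x (D.neg r) (-(t * u)⁻¹) * x r (t * u) * (x r (-1) * x (D.neg r) (-(-1)⁻¹) * x r (-1))) :
    ∃ φ : D.SteinbergGroup F →* Γ, ∀ r < D.nroots, ∀ t, φ (D.stGen F r t) = x r t := by
  have hrel : ∀ g ∈ D.steinbergRels F, evX (D := D) x g = 1 := by
    rintro g ((⟨r, t₁, t₂, hr, rfl⟩ | ⟨r, s, t, u, hr, hs, h1, h2, rfl⟩) | ⟨r, t₁, t₂, hr, ht₁, ht₂, rfl⟩)
    · rw [map_mul, map_inv, mul_inv_eq_one, map_mul, evX_stX x hr, evX_stX x hr, evX_stX x hr, add r hr]
    · rw [map_mul, map_inv, mul_inv_eq_one, map_mul, map_mul, map_mul, map_inv, map_inv, evX_stX x hr, evX_stX x hs,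
        comm r hr s hs h1 h2, evX_word]
      intro p hp
      unfold ChevalleyDatum.commWord at hp
      obtain ⟨c, hc, rfl⟩ := List.mem_map.1 hp
      exact ((H.pairOK hr hs h1 h2).terms c hc).1
    · have hn := neg_lt H.toGood1 hr
      have hw : ∀ t : F, evX (D := D) x (D.stH r t) =
          x r t * x (D.neg r) (-t⁻¹) * x r t * (x r (-1) * x (D.neg r) (-(-1)⁻¹) * x r (-1)) := by
        intro t
        unfold ChevalleyDatum.stH
        rw [evX_word]
        · simp only [ChevalleyDatum.hWord, ChevalleyDatum.nWord, List.map_append, List.map_cons,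
            List.map_nil, List.prod_append, List.prod_cons, List.prod_nil, mul_one, mul_assoc]
        · intro p hp
          simp only [ChevalleyDatum.hWord, ChevalleyDatum.nWord, List.mem_append, List.mem_cons, List.not_mem_nil,
            or_false] at hp
          rcases hp with (rfl | rfl | rfl) | (rfl | rfl | rfl) <;> assumption
      rw [map_mul, map_inv, mul_inv_eq_one, map_mul, hw, hw, hw, h3 r hr t₁ t₂ ht₁ ht₂]
  refine ⟨PresentedGroup.toGroup (f := fun p : Fin D.nroots × F => x p.1 p.2) hrel, fun r hr t => ?_⟩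
  have h1 : D.stX r t = FreeGroup.of ((⟨r, hr⟩ : Fin D.nroots), t) := by simp [ChevalleyDatum.stX, hr]
  unfold ChevalleyDatum.stGen
  rw [h1]
  exact PresentedGroup.toGroup.of hrel

/-- the homomorphism to the Steinberg group of type E8 -/
theorem exists_emb (H : Good D) (H8 : Good chevE8) {io : ℕ → ℕ} (E : EmbOK D io) (Q8 : StSt H8 F Γ) :
    ∃ φ : D.SteinbergGroup F →* Γ, ∀ r < D.nroots, ∀ t, φ (D.stGen F r t) = Q8.x (io r) t := by
  apply exists_hom_raw H (fun r t => Q8.x (io r) t)
  · intro r hr t u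
    exact Q8.add (E.lt r hr) t u
  · intro r hr s hs h1 h2 t u
    obtain ⟨h3, h4⟩ := E.ne r hr s hs h1 h2
    have h5 := Q8.comm (E.lt r hr) (E.lt s hs) h3 h4 t u
    rw [h5]
    unfold ChevalleyDatum.commWord
    rw [E.terms r hr s hs h1 h2, List.map_map, List.map_map, List.map_map]
    rfl
  · intro r hr t u ht hu
    have h5 := Q8.r3 (E.lt r hr) ht hu
    simp only [PreSt.hr, PreSt.nr] at h5
    rw [E.neg r hr]
    exact h5

end

section tor

variable {D : ChevalleyDatum} {F : Type*} [Field F]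

/-- extension of torus parameters -/
def extT (D : ChevalleyDatum) (F : Type*) [Field F] : (Fin D.rank → Fˣ) →* (Fin chevE8.rank → Fˣ) where
  toFun τ := fun i => if h : (i : ℕ) < D.rank then τ ⟨i, h⟩ else 1
  map_one' := by
    funext i
    by_cases h : (i : ℕ) < D.rank <;> simp [h]
  map_mul' τ τ' := by
    funext i
    by_cases h : (i : ℕ) < D.rank <;> simp [h]

lemma extT_single (i : Fin D.rank) (hi : (i : ℕ) < chevE8.rank) (c : Fˣ) :
    extT D F (Pi.mulSingle i c) = Pi.mulSingle ⟨i, hi⟩ c := by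
  funext j
  show (if h : (j : ℕ) < D.rank then (Pi.mulSingle i c : Fin D.rank → Fˣ) ⟨j, h⟩ else 1) = _
  by_cases hj : j = ⟨i, hi⟩
  · subst hj
    rw [Pi.mulSingle_eq_same, dif_pos i.2, Pi.mulSingle_eq_same]
  · rw [Pi.mulSingle_eq_of_ne hj]
    by_cases h : (j : ℕ) < D.rank
    · rw [dif_pos h, Pi.mulSingle_eq_of_ne]
      intro e
      apply hj
      apply Fin.ext
      exact congrArg (fun z : Fin D.rank => (z : ℕ)) e
    · rw [dif_neg h]

/-- the torus of the Steinberg group is parametrized faithfully -/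
theorem tor_injective (H : Good D) (S : SP D) (H8 : Good chevE8) {io : ℕ → ℕ} (E : EmbOK D io) (hl : D.rank ≤ 8) :
    Function.Injective ((stOf H F).tor S) := by
  set Q := stOf H F
  set Q8 := stOf H8 F
  obtain ⟨φ, hφ⟩ := exists_emb H H8 E Q8
  have hx : ∀ r < D.nroots, ∀ t : F, φ (Q.x r t) = Q8.x (io r) t := hφ
  have hh : ∀ (i : Fin D.rank) (hi : (i : ℕ) < chevE8.rank) (c : Fˣ), φ (Q.hHom i c) = Q8.hHom ⟨i, hi⟩ c := by
    intro i hi c
    have hp := H.simple_lt i i.2
    have hn := neg_lt H.toGood1 hp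
    rw [StSt.hHom_apply, StSt.hHom_apply]
    simp only [PreSt.hr, PreSt.nr, map_mul, hx _ hp, hx _ hn, E.neg _ hp, E.simple i i.2]
  have hcomp : ∀ τ, φ (Q.tor S τ) = Q8.tor sp_E8 (extT D F τ) := by
    intro τ
    have h : τ ∈ (φ.comp (Q.tor S)).eqLocus ((Q8.tor sp_E8).comp (extT D F)) := by
      apply Subgroup.pi_mem_of_mulSingle_mem
      intro i
      have hi : (i : ℕ) < chevE8.rank := lt_of_lt_of_le i.2 hl
      show φ (Q.tor S (Pi.mulSingle i (τ i))) = Q8.tor sp_E8 (extT D F (Pi.mulSingle i (τ i)))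
      rw [extT_single i hi, StSt.tor_single, StSt.tor_single, hh i hi]
    exact h
  rw [injective_iff_map_eq_one]
  intro τ hτ
  have h1 := hcomp τ
  rw [hτ, map_one] at h1
  have h2 := (Q8.θ_tor_iff sp_E8 (extT D F τ)).1 (by rw [← h1, map_one])
  have hB : Unim chevE8 [[4, 5, 7, 10, 8, 6, 4, 2], [5, 8, 10, 15, 12, 9, 6, 3], [7, 10, 14, 20, 16, 12, 8, 4], [10, 15, 20, 30, 24, 18, 12, 6], [8, 12, 16, 24, 20, 15, 10, 5], [6, 9, 12, 18, 15, 12, 8, 4], [4, 6, 8, 12, 10, 8, 6, 3], [2, 3, 4, 6, 5, 4, 3, 2]] := by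
    decide +kernel
  have h3 := tor_trivial hB _ h2
  funext i
  have hi : (i : ℕ) < chevE8.rank := lt_of_lt_of_le i.2 hl
  have h4 := congrFun h3 ⟨i, hi⟩
  have h5 : extT D F τ ⟨i, hi⟩ = τ i := by
    show (if h : (i : ℕ) < D.rank then τ ⟨i, h⟩ else 1) = _
    rw [dif_pos i.2]
  rw [h5] at h4
  exact h4

/-- combination of the characters of a torus element -/
lemma torChi_comb (τ : Fin D.rank → Fˣ) (h : ∀ j < D.rank, StSt.torChi D τ j = 1) (c : ℕ → ℤ) :
    ∏ i : Fin D.rank, τ i ^ (∑ j ∈ Finset.range D.rank, D.cartan i (D.simple j) * c j) = 1 := by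
  have h1 : ∀ j ∈ Finset.range D.rank, StSt.torChi D τ j ^ (c j) = 1 := by
    intro j hj
    rw [h j (Finset.mem_range.1 hj), one_zpow]
  have h2 : ∏ j ∈ Finset.range D.rank, StSt.torChi D τ j ^ (c j) = 1 := Finset.prod_eq_one h1
  have h3 : ∀ (s : Finset ℕ) (i : Fin D.rank), ∏ j ∈ s, (τ i ^ D.cartan i (D.simple j)) ^ (c j) =
      τ i ^ (∑ j ∈ s, D.cartan i (D.simple j) * c j) := by
    intro s i
    induction s using Finset.induction_on with
    | empty => simp
    | insert a s ha ih => rw [Finset.prod_insert ha, Finset.sum_insert ha, zpow_add, ih, zpow_mul]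
  rw [← h2]
  have : ∀ j ∈ Finset.range D.rank, StSt.torChi D τ j ^ (c j) = ∏ i : Fin D.rank, (τ i ^ D.cartan i (D.simple j)) ^ (c j) := by
    intro j _
    rw [StSt.torChi, Finset.prod_zpow]
  rw [Finset.prod_congr rfl this, Finset.prod_comm]
  apply Finset.prod_congr rfl
  intro i _
  rw [h3]

/-- certificate for a cyclic centre -/
def CycC (D : ChevalleyDatum) (n i0 : ℕ) (m : List ℤ) (C : List (List ℤ)) : Prop :=
  i0 < D.rank ∧ m.getD i0 0 = 1 ∧
  (∀ i < D.rank, ∀ k < D.rank, ∑ j ∈ Finset.range D.rank, D.cartan k (D.simple j) * (C.getD i []).getD j 0 =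
    (if k = i then 1 else 0) - m.getD i 0 * (if k = i0 then 1 else 0)) ∧
  (∀ k < D.rank, ∑ j ∈ Finset.range D.rank, D.cartan k (D.simple j) * (C.getD D.rank []).getD j 0 = if k = i0 then (n : ℤ) else 0) ∧
  ∀ j < D.rank, (n : ℤ) ∣ ∑ i ∈ Finset.range D.rank, D.cartan i (D.simple j) * m.getD i 0

instance (D : ChevalleyDatum) (n i0 : ℕ) (m : List ℤ) (C : List (List ℤ)) : Decidable (CycC D n i0 m C) := by
  unfold CycC; infer_instance

theorem cyc_E6 : CycC chevE6 3 0 [1, 0, 2, 0, 1, 2] [[0, 0, 0, 0, 0, 0], [1, 2, 2, 3, 2, 1], [-1, 0, 0, 0, 0, 0],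
    [2, 3, 4, 6, 4, 2], [0, 1, 1, 2, 2, 1], [-2, -1, -2, -2, -1, 0], [4, 3, 5, 6, 4, 2]] := by decide +kernel
theorem cyc_E7 : CycC chevE7 2 1 [0, 1, 0, 0, 1, 0, 1] [[2, 2, 3, 4, 3, 2, 1], [0, 0, 0, 0, 0, 0, 0], [3, 4, 6, 8, 6, 4, 2],
    [4, 6, 8, 12, 9, 6, 3], [1, 1, 2, 3, 3, 2, 1], [2, 3, 4, 6, 5, 4, 2], [-1, -2, -2, -3, -2, -1, 0],
    [4, 7, 8, 12, 9, 6, 3]] := by decide +kernel

/-- the torus elements with trivial character -/
theorem card_chi {n i0 : ℕ} {m : List ℤ} {C : List (List ℤ)} (h : CycC D n i0 m C) [Finite F] :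
    Nat.card {τ : Fin D.rank → Fˣ // ∀ j < D.rank, StSt.torChi D τ j = 1} = Nat.gcd (Nat.card Fˣ) n := by
  obtain ⟨hi0, hm, h1, h2, h3⟩ := h
  rw [← IsCyclic.card_powMonoidHom_ker (G := Fˣ) n]
  have hpow : ∀ τ : Fin D.rank → Fˣ, (∀ j < D.rank, StSt.torChi D τ j = 1) → τ ⟨i0, hi0⟩ ^ n = 1 := by
    intro τ hτ
    have h4 := torChi_comb τ hτ (fun j => (C.getD D.rank []).getD j 0)
    have h5 : ∀ i ∈ (Finset.univ : Finset (Fin D.rank)), τ i ^ (∑ j ∈ Finset.range D.rank, D.cartan i (D.simple j) *
        (C.getD D.rank []).getD j 0) = if i = ⟨i0, hi0⟩ then τ ⟨i0, hi0⟩ ^ n else 1 := by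
      intro i _
      rw [h2 i i.2]
      by_cases hi : i = ⟨i0, hi0⟩
      · rw [if_pos hi, if_pos (congrArg Fin.val hi), hi, zpow_natCast]
      · rw [if_neg hi, if_neg (fun e => hi (Fin.ext e)), zpow_zero]
    rw [Finset.prod_congr rfl h5, Finset.prod_ite_eq' Finset.univ, if_pos (Finset.mem_univ _)] at h4
    exact h4
  have hval : ∀ τ : Fin D.rank → Fˣ, (∀ j < D.rank, StSt.torChi D τ j = 1) → ∀ i : Fin D.rank, τ i = τ ⟨i0, hi0⟩ ^ (m.getD i 0) := by
    intro τ hτ i
    have h4 := torChi_comb τ hτ (fun j => (C.getD i []).getD j 0)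
    have h5 : ∀ k ∈ (Finset.univ : Finset (Fin D.rank)), τ k ^ (∑ j ∈ Finset.range D.rank, D.cartan k (D.simple j) *
        (C.getD i []).getD j 0) = (if k = i then τ i else 1) * (if k = ⟨i0, hi0⟩ then τ ⟨i0, hi0⟩ ^ (- m.getD i 0) else 1) := by
      intro k _
      rw [h1 i i.2 k k.2, sub_eq_add_neg, zpow_add]
      congr 1
      · by_cases hi : k = i
        · rw [if_pos hi, if_pos (congrArg Fin.val hi), hi, zpow_one]
        · rw [if_neg hi, if_neg (fun e => hi (Fin.ext e)), zpow_zero]
      · by_cases hi : k = ⟨i0, hi0⟩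
        · rw [if_pos hi, if_pos (congrArg Fin.val hi), hi, mul_one]
        · rw [if_neg hi, if_neg (fun e => hi (Fin.ext e)), mul_zero, neg_zero, zpow_zero]
    rw [Finset.prod_congr rfl h5, Finset.prod_mul_distrib, Finset.prod_ite_eq' Finset.univ, if_pos (Finset.mem_univ _),
      Finset.prod_ite_eq' Finset.univ, if_pos (Finset.mem_univ _), zpow_neg] at h4
    exact mul_inv_eq_one.1 h4
  have hback : ∀ ζ : Fˣ, ζ ^ n = 1 → ∀ j < D.rank, StSt.torChi D (fun i => ζ ^ (m.getD i 0)) j = 1 := by
    intro ζ hζ j hj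
    unfold StSt.torChi
    have h4 : ∀ i ∈ (Finset.univ : Finset (Fin D.rank)), (ζ ^ (m.getD i 0)) ^ D.cartan i (D.simple j) =
        (fun i : ℕ => ζ ^ (D.cartan i (D.simple j) * m.getD i 0)) i := by
      intro i _
      show _ = ζ ^ (D.cartan i (D.simple j) * m.getD i 0)
      rw [← zpow_mul, mul_comm]
    rw [Finset.prod_congr rfl h4, Fin.prod_univ_eq_prod_range (fun i : ℕ => ζ ^ (D.cartan i (D.simple j) * m.getD i 0)) D.rank]
    have h5 : ∀ l : ℕ, ∏ i ∈ Finset.range l, ζ ^ (D.cartan i (D.simple j) * m.getD i 0) =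
        ζ ^ (∑ i ∈ Finset.range l, D.cartan i (D.simple j) * m.getD i 0) := by
      intro l
      induction l with
      | zero => simp
      | succ l ih => rw [Finset.prod_range_succ, ih, Finset.sum_range_succ, zpow_add]
    rw [h5]
    obtain ⟨d, hd⟩ := h3 j hj
    rw [hd, zpow_mul, zpow_natCast, hζ, one_zpow]
  apply Nat.card_congr
  exact
    { toFun := fun τ => ⟨τ.1 ⟨i0, hi0⟩, by
        rw [MonoidHom.mem_ker, powMonoidHom_apply]; exact hpow τ.1 τ.2⟩
      invFun := fun ζ => ⟨fun i => (ζ : Fˣ) ^ (m.getD i 0), hback ζ (by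
        have := ζ.2
        rwa [MonoidHom.mem_ker, powMonoidHom_apply] at this)⟩
      left_inv := fun τ => by
        apply Subtype.ext
        funext i
        exact (hval τ.1 τ.2 i).symm
      right_inv := fun ζ => by
        apply Subtype.ext
        show (ζ : Fˣ) ^ (m.getD i0 0) = ζ
        rw [hm, zpow_one] }

/-- the order of the centre of the Steinberg group -/
theorem card_center {D : ChevalleyDatum} (hD : D ∈ data) {io : ℕ → ℕ} (E : EmbOK D io) (hl : D.rank ≤ 8)
    {n i0 : ℕ} {m : List ℤ} {C : List (List ℤ)} (h : CycC D n i0 m C) {F : Type*} [Field F] [Finite F] :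
    Nat.card (Subgroup.center (D.SteinbergGroup F)) = Nat.gcd n (Nat.card Fˣ) := by
  set H := good_of_mem hD
  have S := sp_of_mem hD
  obtain ⟨E0⟩ := DData.nonempty_of_mem hD
  set Q := stOf H F
  have hinj := tor_injective (F := F) H S (good_of_mem (D := chevE8) (by simp [data])) E hl
  rw [Nat.gcd_comm, ← card_chi (F := F) h]
  have hker : Q.θ.ker = Subgroup.center (D.SteinbergGroup F) := PreSt.ker_eq_center (P := Q.toPreSt) S E0 (stOf_gen H)
  symm
  apply Nat.card_congr
  refine Equiv.ofBijective (fun τ => ⟨Q.tor S τ.1, ?_⟩) ⟨?_, ?_⟩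
  · rw [← hker, MonoidHom.mem_ker, Q.θ_tor_iff S]
    exact τ.2
  · intro τ τ' e
    exact Subtype.ext (hinj (congrArg Subtype.val e))
  · rintro ⟨g, hg⟩
    rw [← hker, MonoidHom.mem_ker] at hg
    have h1 := PreSt.mem_T_of_ker (P := Q.toPreSt) S E0 (stOf_gen H) hg
    rw [← Q.tor_range S] at h1
    obtain ⟨τ, rfl⟩ := h1
    exact ⟨⟨τ, (Q.θ_tor_iff S τ).1 hg⟩, rfl⟩

end tor

end Cfsg.Agent.Mult
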