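import Cfsg.Agent.Chev.Desc
import Cfsg.Agent.Chev.HMat

set_option autoImplicit false

/-!
Combinatorics of the simply laced types for the lifting of the Steinberg relations.
-/

namespace Cfsg.Agent.Mult

open Cfsg.Lie Cfsg.Agent.Chev

/-- all commutators are of the form `[x_r, x_s] = x_{r+s}` -/
structure SL (D : ChevalleyDatum) : Prop where
  len : ∀ r s, (D.chainEntry r s).length ≤ 1
  pm : ∀ r s, ∀ q ∈ D.chainEntry r s, q.2 = 1 ∨ q.2 = -1
  ne : ∀ r s, ∀ q ∈ D.chainEntry r s, q.1 ≠ D.neg r ∧ q.1 ≠ D.neg s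

/-- check of the simply laced property -/
def chkSL (D : ChevalleyDatum) : Bool :=
  allN D.nroots fun r => (D.chain.getD r #[]).toList.all fun e => Nat.beq e.2.toList.length 1 &&
    e.2.toList.all fun q => (zeq q.2 1 || zeq q.2 (-1)) &&
      (!Nat.beq (Nat.succ (Nat.add q.1 r)) D.nroots && !Nat.beq (Nat.succ (Nat.add q.1 e.1)) D.nroots)

variable {D : ChevalleyDatum}

lemma sl_of_chk (H : Good1 D) (h : chkSL D = true) : SL D := by
  have key : ∀ r s, D.chainEntry r s ≠ [] → (D.chainEntry r s).length = 1 ∧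
      ∀ q ∈ D.chainEntry r s, (q.2 = 1 ∨ q.2 = -1) ∧ q.1 ≠ D.neg r ∧ q.1 ≠ D.neg s := by
    intro r s hne
    have hr := (H.key_lt r s hne).1
    have hs := (H.key_lt r s hne).2.1
    have h := allN_imp h hr
    rw [List.all_eq_true] at h
    unfold ChevalleyDatum.chainEntry at hne ⊢
    cases hf : (D.chain.getD r #[]).toList.find? (fun e => e.1 = s) with
    | none => rw [hf] at hne; exact absurd rfl hne
    | some e =>
      have he := List.find?_some hf
      simp only [decide_eq_true_eq] at he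
      have h1 := h e (List.mem_of_find?_eq_some hf)
      rw [Bool.and_eq_true, List.all_eq_true] at h1
      refine ⟨Nat.eq_of_beq_eq_true h1.1, fun q hq => ?_⟩
      have h2 := h1.2 q hq
      simp only [Bool.and_eq_true, Bool.or_eq_true, Bool.not_eq_true'] at h2
      obtain ⟨h3, h4, h5⟩ := h2
      refine ⟨h3.imp zeq_iff zeq_iff, ?_, ?_⟩
      · rw [H.neg_eq r hr]
        intro h6
        rw [← Bool.not_eq_true] at h4
        apply h4
        rw [h6, Nat.beq_eq]
        show Nat.succ (D.nroots - 1 - r + r) = D.nroots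
        omega
      · rw [H.neg_eq s hs]
        intro h6
        rw [← Bool.not_eq_true] at h5
        apply h5
        rw [h6, he, Nat.beq_eq]
        show Nat.succ (D.nroots - 1 - s + s) = D.nroots
        omega
  refine ⟨fun r s => ?_, fun r s q hq => ?_, fun r s q hq => ?_⟩
  · by_cases hne : D.chainEntry r s = []
    · rw [hne]; simp
    · rw [(key r s hne).1]
  · exact ((key r s (List.ne_nil_of_mem hq)).2 q hq).1
  · exact ((key r s (List.ne_nil_of_mem hq)).2 q hq).2

lemma SL.len2 (S : SL D) (r s : ℕ) : (D.chainEntry r s).length ≤ 2 := (S.len r s).trans (by norm_num)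

/-- shape of the commutator terms -/
lemma SL.terms (S : SL D) (r s : ℕ) : (D.chainEntry r s = [] ∧ D.commTerms r s = []) ∨
    ∃ k M, (M = 1 ∨ M = -1) ∧ D.chainEntry r s = [(k, M)] ∧ D.commTerms r s = [(k, M, 1, 1)] := by
  have h := commTerms_eq S.len2 r s
  have h1 : ∀ a b, (D.chainEntry a b)[1]? = none := fun a b => List.getElem?_eq_none (S.len a b)
  rw [h1, h1] at h
  cases hc : D.chainEntry r s with
  | nil =>
    left
    rw [hc] at h
    exact ⟨rfl, by simpa using h⟩
  | cons q l =>
    right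
    have hl := S.len r s
    rw [hc] at hl
    have hl' : l = [] := by
      cases l with
      | nil => rfl
      | cons => simp at hl
    subst hl'
    rw [hc] at h
    exact ⟨q.1, q.2, S.pm r s q (by rw [hc]; simp), rfl, by simpa using h⟩

/-- commuting pairs of roots -/
def CP (D : ChevalleyDatum) (r s : ℕ) : Prop := r < D.nroots ∧ s < D.nroots ∧ s ≠ D.neg r ∧ D.commTerms r s = []

/-- decompositions of roots -/
structure Dec (D : ChevalleyDatum) (k a b : ℕ) : Prop where
  ha : a < D.nroots
  hb : b < D.nroots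
  hk : k < D.nroots
  ne : b ≠ a
  nneg : b ≠ D.neg a
  eq : ∃ ε : ℤ, (ε = 1 ∨ ε = -1) ∧ D.commTerms a b = [(k, ε, 1, 1)]
  ca : CP D a k
  cb : CP D b k

lemma chain_ne (H : Good1 D) {r s : ℕ} (h : D.chainEntry r s ≠ []) : r < D.nroots ∧ s < D.nroots ∧ s ≠ r ∧ s ≠ D.neg r := by
  exact H.key_lt r s h

/-- decompositions from chain entries -/
lemma SL.dec (S : SL D) (H : Good D) {a b k : ℕ} {M : ℤ} (h : D.commTerms a b = [(k, M, 1, 1)]) : Dec D k a b := by
  rcases S.terms a b with h1 | ⟨k', M', hM, hc, ht⟩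
  · rw [h1.2] at h; simp at h
  · rw [ht] at h
    simp only [List.cons.injEq, Prod.mk.injEq, and_true] at h
    obtain ⟨rfl, rfl⟩ := h
    have hne : D.chainEntry a b ≠ [] := by rw [hc]; simp
    obtain ⟨ha, hb, n1, n2⟩ := chain_ne H.toGood1 hne
    have P := H.pairOK ha hb n1 n2
    have hmem : (k', M', 1, 1) ∈ D.commTerms a b := by rw [ht]; simp
    have hk : k' < D.nroots := (P.terms _ hmem).1
    have hv : ∀ j < D.rank, vec D k' j = vec D a j + vec D b j := by
      intro j hj
      have := (P.terms _ hmem).2.2.2 j hj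
      simpa using this
    have n3 := S.ne a b (k', M') (by rw [hc]; simp)
    simp only at n3
    have n4 : a ≠ b := fun e => n1 e.symm
    have n5 : a ≠ D.neg b := fun e => n2 (by rw [e, neg_neg H.toGood1 hb])
    have P' := H.pairOK hb ha n4 n5
    refine ⟨ha, hb, hk, n1, n2, ⟨M', hM, ht⟩, ⟨ha, hk, n3.1, ?_⟩, ⟨hb, hk, n3.2, ?_⟩⟩
    · rcases S.terms a k' with h1 | ⟨m, M2, _, hc2, ht2⟩
      · exact h1.2
      · exfalso
        have hne2 : D.chainEntry a k' ≠ [] := by rw [hc2]; simp
        obtain ⟨_, _, n6, n7⟩ := chain_ne H.toGood1 hne2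
        have Q := H.pairOK ha hk n6 n7
        have hmem2 : (m, M2, 1, 1) ∈ D.commTerms a k' := by rw [ht2]; simp
        obtain ⟨hm, _, _, hv2⟩ := Q.terms _ hmem2
        obtain ⟨M3, h3⟩ := P.compl m hm 1 (by norm_num) (fun j hj => by
          have := hv2 j hj
          simp only at this
          rw [this, hv j hj]; push_cast; ring)
        have := S.len a b
        rw [List.getElem?_eq_none this] at h3
        simp at h3
    · rcases S.terms b k' with h1 | ⟨m, M2, _, hc2, ht2⟩
      · exact h1.2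
      · exfalso
        have hne2 : D.chainEntry b k' ≠ [] := by rw [hc2]; simp
        obtain ⟨_, _, n6, n7⟩ := chain_ne H.toGood1 hne2
        have Q := H.pairOK hb hk n6 n7
        have hmem2 : (m, M2, 1, 1) ∈ D.commTerms b k' := by rw [ht2]; simp
        obtain ⟨hm, _, _, hv2⟩ := Q.terms _ hmem2
        obtain ⟨M3, h3⟩ := P'.compl m hm 1 (by norm_num) (fun j hj => by
          have := hv2 j hj
          simp only at this
          rw [this, hv j hj]; push_cast; ring)
        have := S.len b a
        rw [List.getElem?_eq_none this] at h3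
        simp at h3

/-! ### invariance under the Weyl group -/

/-- all chains have length at most two -/
def Len2 (D : ChevalleyDatum) : Prop := ∀ r s, (D.chainEntry r s).length ≤ 2

lemma CP_w (H : Good2 D) (hl : Len2 D) {i : ℕ} (hi : i < D.rank) {r s : ℕ} (h : CP D r s) :
    CP D (D.reflectRoot i r) (D.reflectRoot i s) := by
  obtain ⟨hr, hs, hn, hc⟩ := h
  refine ⟨H.w_lt i hi r hr, H.w_lt i hi s hs, ?_, ?_⟩
  · rw [← w_neg H.toGood1 hi hr]
    intro e
    exact hn (w_inj H.toGood1 hi hs (neg_lt H.toGood1 hr) e)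
  · rw [commTerms_w H hl hi hr hs, hc]; rfl

lemma Dec_w (H : Good2 D) (hl : Len2 D) {i : ℕ} (hi : i < D.rank) {k a b : ℕ} (h : Dec D k a b) :
    Dec D (D.reflectRoot i k) (D.reflectRoot i a) (D.reflectRoot i b) := by
  obtain ⟨ε, hε, he⟩ := h.eq
  refine ⟨H.w_lt i hi a h.ha, H.w_lt i hi b h.hb, H.w_lt i hi k h.hk, ?_, ?_, ?_, CP_w H hl hi h.ca, CP_w H hl hi h.cb⟩
  · intro e; exact h.ne (w_inj H.toGood1 hi h.hb h.ha e)
  · rw [← w_neg H.toGood1 hi h.ha]
    intro e
    exact h.nneg (w_inj H.toGood1 hi h.hb (neg_lt H.toGood1 h.ha) e)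
  · refine ⟨ε * (eta D i k * (eta D i a ^ 1 * eta D i b ^ 1)), ?_, ?_⟩
    · rcases hε with rfl | rfl <;> rcases H.eta_or hi h.hk with h1 | h1 <;> rcases H.eta_or hi h.ha with h2 | h2 <;>
        rcases H.eta_or hi h.hb with h3 | h3 <;> rw [h1, h2, h3] <;> norm_num
    · rw [commTerms_w H hl hi h.ha h.hb, he]; rfl

/-- induction over pairs of roots, with arbitrary base -/
lemma pair_ind2 (H : Good1 D) {P : ℕ → ℕ → Prop} (B : ℕ → ℕ → Bool)
    (hstep : ∀ i < D.rank, ∀ r < D.nroots, ∀ s < D.nroots, P (D.reflectRoot i r) (D.reflectRoot i s) → P r s)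
    (hchk : (allN D.nroots fun r => domd D r || allN D.nroots fun s =>
      !(allN D.rank fun i => !(Nat.beq (wv (wP D i) r) r && Nat.blt s (wv (wP D i) s))) || B r s) = true)
    (hbase : ∀ r < D.nroots, ∀ s < D.nroots, B r s = true → P r s) :
    ∀ r < D.nroots, ∀ s < D.nroots, P r s := by
  apply root_induction (P := fun r => ∀ s < D.nroots, P r s) H
  · intro i hi r hr h s hs
    exact hstep i hi r hr s hs (h _ (H.w_lt i hi s hs))
  · intro r hr hd
    have h := allN_imp hchk hr
    rw [hd, Bool.false_or] at h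
    have key : ∀ m : ℕ, ∀ s < D.nroots, D.nroots - s = m → P r s := by
      intro m
      induction m using Nat.strong_induction_on with
      | _ m ih =>
        intro s hs hm
        have h3 := allN_imp h hs
        rw [Bool.or_eq_true] at h3
        rcases h3 with h3 | h3
        · rw [Bool.not_eq_true', ← Bool.not_eq_true, allN_iff] at h3
          push Not at h3
          obtain ⟨i, hi, h5⟩ := h3
          rw [ne_eq, Bool.not_eq_true', Bool.not_eq_false, Bool.and_eq_true] at h5
          have h6 := Nat.eq_of_beq_eq_true h5.1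
          have h7 := blt_lt h5.2
          rw [H.wv_eq i hi r hr] at h6
          rw [H.wv_eq i hi s hs] at h7
          have hws := H.w_lt i hi s hs
          have := ih (D.nroots - D.reflectRoot i s) (by omega) _ hws rfl
          apply hstep i hi r hr s hs
          rw [h6]
          exact this
        · exact hbase r hr s hs h3
    exact fun s hs => key _ s hs rfl

/-! ### checks -/

/-- commuting pair -/
def cpB (D : ChevalleyDatum) (r s : ℕ) : Bool := !(Nat.beq (Nat.succ (Nat.add s r)) D.nroots) && (D.commTerms r s).isEmpty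

/-- decomposition -/
def decB (D : ChevalleyDatum) (k a b : ℕ) : Bool :=
  decide (D.commTerms a b = [(k, 1, 1, 1)]) || decide (D.commTerms a b = [(k, -1, 1, 1)])

lemma CP_of_chk (H : Good1 D) {r s : ℕ} (hr : r < D.nroots) (hs : s < D.nroots) (h : cpB D r s = true) : CP D r s := by
  unfold cpB at h
  rw [Bool.and_eq_true, Bool.not_eq_true', ← Bool.not_eq_true, Nat.beq_eq, List.isEmpty_iff] at h
  refine ⟨hr, hs, ?_, h.2⟩
  rw [H.neg_eq r hr]
  intro e
  apply h.1
  show Nat.succ (s + r) = D.nroots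
  omega

lemma cpB_of_CP (H : Good1 D) {r s : ℕ} (h : CP D r s) : cpB D r s = true := by
  obtain ⟨hr, hs, h1, h2⟩ := h
  unfold cpB
  rw [Bool.and_eq_true, Bool.not_eq_true', ← Bool.not_eq_true, Nat.beq_eq, List.isEmpty_iff]
  refine ⟨?_, h2⟩
  intro e
  apply h1
  rw [H.neg_eq r hr]
  have e : Nat.succ (s + r) = D.nroots := e
  omega

/-- base check for commuting pairs: `s = a + b` with `a`, `b` commuting with `r` -/
def baseB (D : ChevalleyDatum) (hints : List (ℕ × ℕ)) (r s : ℕ) : Bool :=
  !(cpB D r s) || hints.any fun p => decB D s p.1 p.2 && (Nat.blt p.1 D.nroots && (Nat.blt p.2 D.nroots &&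
    (cpB D r p.1 && cpB D r p.2)))

/-- check of commuting pairs -/
def chkC (D : ChevalleyDatum) (hints : List (ℕ × ℕ)) : Bool :=
  allN D.nroots fun r => domd D r || allN D.nroots fun s =>
      !(allN D.rank fun i => !(Nat.beq (wv (wP D i) r) r && Nat.blt s (wv (wP D i) s))) || baseB D hints r s

/-- check of decompositions -/
def chkD (D : ChevalleyDatum) (r0 a0 b0 j0 : ℕ) : Bool :=
  (allN D.nroots fun r => domd D r || Nat.beq r r0) &&
  ((allN D.rank fun i => !(Nat.beq (wv (wP D i) r0) r0) ||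
    (cpB D (D.simple i) r0 && cpB D (D.neg (D.simple i)) r0)) &&
  ((Nat.blt r0 D.nroots && (Nat.blt a0 D.nroots && (Nat.blt b0 D.nroots && (Nat.blt j0 D.rank &&
    (Nat.beq (wv (wP D j0) r0) r0 && (zeq (cartF D j0 a0) 1 && (zeq (cartF D j0 b0) (-1) && decB D r0 a0 b0))))))) &&
  (allN D.nroots fun a => !(allN D.rank fun i => !(Nat.beq (wv (wP D i) r0) r0 && Nat.blt a (wv (wP D i) a))) ||
    allN D.nroots fun b => !(decB D r0 a b) || (Nat.beq a a0 && Nat.beq b b0))))

end Cfsg.Agent.Mult
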