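import Cfsg.Agent.Mult.Cext
import Cfsg.Agent.Mult.SL
import Cfsg.Agent.ChevGrp.Perfect
import Cfsg.Agent.ChevGrp.Inst
import Cfsg.Agent.Steinb.Pre

set_option autoImplicit false

/-!
Lifting of the Steinberg relations to central extensions, simply laced types.
-/

namespace Cfsg.Agent.Mult

open Cfsg.Lie Cfsg.Agent.Chev Cfsg.Agent.ChevTw Cfsg.Agent.ChevGrp Cfsg.Agent.Steinb
open scoped commutatorElement

variable {D : ChevalleyDatum} (H : Good D) {F : Type*} [Field F] {Γ : Type*} [Group Γ] {σ : Γ →* ↥(D.group F)} (C : CE σ)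

lemma xG_comm' {r s : ℕ} (h : CP D r s) (t u : F) :
    xG H.toGood2 r t * xG H.toGood2 s u = xG H.toGood2 s u * xG H.toGood2 r t := by
  obtain ⟨hr, hs, hn, hc⟩ := h
  by_cases hrs : s = r
  · subst hrs
    rw [← xG_add H.toGood2 hr, ← xG_add H.toGood2 hr, add_comm]
  · exact xG_comm H hr hs hrs hn hc t u

/-- the commutator formula for a decomposition -/
lemma comm_dec' {k a b : ℕ} (h : Dec D k a b) {ε : ℤ} (he : D.commTerms a b = [(k, ε, 1, 1)]) (t u : F) :
    ⁅xG H.toGood2 a t, xG H.toGood2 b u⁆ = xG H.toGood2 k ((ε : F) * (t * u)) := by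
  have h3 : xG H.toGood2 b u * xG H.toGood2 a t =
      xG H.toGood2 a t * xG H.toGood2 b u * xG H.toGood2 k (-((ε : F) * (t * u))) := by
    apply eq_of_coe
    simp only [Subgroup.coe_mul, Units.val_mul, xG_coe]
    have := H.comm (F := F) h.ha h.hb h.ne h.nneg t u
    rw [this]
    unfold ChevalleyDatum.commWord
    rw [he]
    simp only [List.map_cons, List.map_nil, ChevalleyDatum.wordMat, List.prod_cons, List.prod_nil, mul_one, pow_one]
    congr 2
    ring
  have ca := xG_comm' (F := F) H h.ca t (ε * (t * u))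
  have cb := xG_comm' (F := F) H h.cb u (ε * (t * u))
  have e1 : xG H.toGood2 k (-((ε : F) * (t * u))) = (xG H.toGood2 k ((ε : F) * (t * u)))⁻¹ :=
    (xG_inv H.toGood2 h.hk _).symm
  rw [e1] at h3
  have h4 : xG H.toGood2 a t * xG H.toGood2 b u =
      xG H.toGood2 b u * xG H.toGood2 a t * xG H.toGood2 k ((ε : F) * (t * u)) := by rw [h3]; group
  rw [commutatorElement_def, h4, mul_assoc (xG H.toGood2 b u), ca, ← mul_assoc (xG H.toGood2 b u), cb]
  group

lemma comm_dec {k a b : ℕ} (h : Dec D k a b) : ∃ ε : F, (ε = 1 ∨ ε = -1) ∧ ∀ t u : F,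
    ⁅xG H.toGood2 a t, xG H.toGood2 b u⁆ = xG H.toGood2 k (ε * (t * u)) := by
  obtain ⟨ε, hε, he⟩ := h.eq
  exact ⟨(ε : F), by rcases hε with rfl | rfl <;> simp, comm_dec' H h he⟩

/-- all lifts of the root subgroups commute -/
def TrR (r s : ℕ) : Prop := ∀ t u : F, C.Tr (xG H.toGood2 r t) (xG H.toGood2 s u)

lemma xG_conj_eta {i : ℕ} (hi : i < D.rank) {r : ℕ} (hr : r < D.nroots) (t : F) :
    nG H.toGood2 (D.simple i) 1 * xG H.toGood2 r (((eta D i r : ℤ) : F) * t) * (nG H.toGood2 (D.simple i) 1)⁻¹ =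
      xG H.toGood2 (D.reflectRoot i r) t := by
  rw [nG_conj H.toGood2 hi hr, ← mul_assoc, ← Int.cast_mul, eta_sq H.toGood1 hi hr, Int.cast_one, one_mul]

lemma TrR_w {i : ℕ} (hi : i < D.rank) {r s : ℕ} (hr : r < D.nroots) (hs : s < D.nroots)
    (h : TrR H C (D.reflectRoot i r) (D.reflectRoot i s)) : TrR H C r s := by
  intro t u
  apply CE.Tr.of_conj (k := nG H.toGood2 (D.simple i) (1 : F))
  rw [nG_conj H.toGood2 hi hr, nG_conj H.toGood2 hi hs]
  exact h _ _

/-- if `s = a + b` with `a`, `b` commuting with `r` then the lifts of `X_r` and `X_s` commute -/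
lemma TrR_dec {r s a b : ℕ} (h : Dec D s a b) (ha : CP D r a) (hb : CP D r b) : TrR H C r s := by
  intro t u
  obtain ⟨ε, hε, he⟩ := comm_dec (F := F) H h
  have h1 := C.tr_comm (xG_comm' H ha t (ε * u)) (xG_comm' H hb t 1)
  rw [he] at h1
  have e : ε * (ε * u * 1) = u := by rcases hε with rfl | rfl <;> ring
  rwa [e] at h1

/-- the data of a simply laced type -/
structure SLData (D : ChevalleyDatum) : Prop where
  sl : SL D
  c : ∃ hints, chkC D hints = true
  d : ∃ r0 a0 b0 j0, chkD D r0 a0 b0 j0 = true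

variable {H C}

lemma SLData.dec_of (S : SLData D) (H : Good D) {k a b : ℕ} (h : decB D k a b = true) : Dec D k a b := by
  unfold decB at h
  rw [Bool.or_eq_true, decide_eq_true_eq, decide_eq_true_eq] at h
  rcases h with h | h
  · exact S.sl.dec H h
  · exact S.sl.dec H h

/-- commuting root subgroups lift to commuting ones -/
theorem SLData.trR (S : SLData D) (H : Good D) (C : CE σ) {r s : ℕ} (h : CP D r s) : TrR H C r s := by
  have hl : Len2 D := S.sl.len2
  obtain ⟨hints, hc⟩ := S.c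
  refine pair_ind2 (P := fun r s => CP D r s → TrR H C r s) H.toGood1 (baseB D hints) ?_ hc ?_ r h.1 s h.2.1 h
  · intro i hi r hr s hs ih h
    exact TrR_w H C hi hr hs (ih (CP_w H.toGood2 hl hi h))
  · intro r hr s hs hb h
    unfold baseB at hb
    rw [cpB_of_CP H.toGood1 h, Bool.not_true, Bool.false_or, List.any_eq_true] at hb
    obtain ⟨⟨a, b⟩, -, h1⟩ := hb
    simp only [Bool.and_eq_true] at h1
    obtain ⟨h2, h3, h4, h5, h6⟩ := h1
    exact TrR_dec H C (S.dec_of H h2) (CP_of_chk H.toGood1 hr (blt_lt h3) h5) (CP_of_chk H.toGood1 hr (blt_lt h4) h6)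

/-- the commutators of lifts only depend on the commutator -/
def JJ (H : Good D) (C : CE σ) (k : ℕ) : Prop := ∀ a b a' b', Dec D k a b → Dec D k a' b' → ∀ t u t' u' : F,
  ⁅xG H.toGood2 a t, xG H.toGood2 b u⁆ = ⁅xG H.toGood2 a' t', xG H.toGood2 b' u'⁆ →
    C.cm (xG H.toGood2 a t) (xG H.toGood2 b u) = C.cm (xG H.toGood2 a' t') (xG H.toGood2 b' u')

lemma JJ_w (hl : Len2 D) {i : ℕ} (hi : i < D.rank) {k : ℕ} (h : JJ H C (D.reflectRoot i k)) : JJ H C k := by
  intro a b a' b' hab hab' t u t' u' he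
  have h1 := h _ _ _ _ (Dec_w H.toGood2 hl hi hab) (Dec_w H.toGood2 hl hi hab')
    (((eta D i a : ℤ) : F) * t) (((eta D i b : ℤ) : F) * u) (((eta D i a' : ℤ) : F) * t') (((eta D i b' : ℤ) : F) * u')
  rw [← nG_conj H.toGood2 hi hab.ha, ← nG_conj H.toGood2 hi hab.hb, ← nG_conj H.toGood2 hi hab'.ha,
    ← nG_conj H.toGood2 hi hab'.hb, ← C.cj_cm, ← C.cj_cm] at h1
  apply (C.cj (nG H.toGood2 (D.simple i) 1)).injective
  apply h1
  rw [← MulAut.conj_apply, ← MulAut.conj_apply, ← MulAut.conj_apply, ← MulAut.conj_apply, ← map_commutatorElement,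
    ← map_commutatorElement, he]

lemma xG_injF (H : Good D) {r : ℕ} (hr : r < D.nroots) {t u : F} (h : xG H.toGood2 r t = xG H.toGood2 r u) : t = u := by
  by_contra hne
  apply Inst.xU_ne_one H hr (sub_ne_zero.2 hne) (F := F)
  have h1 : xU H.toGood2 r t = xU H.toGood2 r u := congrArg Subtype.val h
  rw [sub_eq_add_neg, ← Inst.xU_add H.toGood2 hr, Inst.xU_neg, h1, mul_inv_cancel]

/-- the base case -/
theorem SLData.JJ (S : SLData D) (H : Good D) (C : CE σ) : ∀ k < D.nroots, Mult.JJ H C k := by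
  have hl : Len2 D := S.sl.len2
  obtain ⟨r0, a0, b0, j0, hd⟩ := S.d
  unfold chkD at hd
  simp only [Bool.and_eq_true] at hd
  obtain ⟨hund, hcp, ⟨hr0, ha0, hb0, hj0, hw, hca, hcb, hdec⟩, hall⟩ := hd
  have hr0 := blt_lt hr0
  have ha0 := blt_lt ha0
  have hb0 := blt_lt hb0
  have hj0 := blt_lt hj0
  have hw := Nat.eq_of_beq_eq_true hw
  rw [H.wv_eq j0 hj0 r0 hr0] at hw
  have hca := zeq_iff hca
  have hcb := zeq_iff hcb
  rw [H.cart j0 hj0 a0 ha0] at hca
  rw [H.cart j0 hj0 b0 hb0] at hcb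
  have hD0 : Dec D r0 a0 b0 := S.dec_of H hdec
  -- elements fixing the lifts of X_{r0}
  have hfix : ∀ j < D.rank, D.reflectRoot j r0 = r0 → ∀ t u : F, C.Tr (xG H.toGood2 (D.simple j) t) (xG H.toGood2 r0 u) ∧
      C.Tr (xG H.toGood2 (D.neg (D.simple j)) t) (xG H.toGood2 r0 u) := by
    intro j hj hwj t u
    have hp := H.simple_lt j hj
    have hq := neg_lt H.toGood1 hp
    have h1 := allN_imp hcp hj
    rw [H.wv_eq j hj r0 hr0, hwj, show Nat.beq r0 r0 = true from Nat.beq_eq ▸ rfl, Bool.not_true, Bool.false_or,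
      Bool.and_eq_true] at h1
    exact ⟨S.trR H C (CP_of_chk H.toGood1 hp hr0 h1.1) t u, S.trR H C (CP_of_chk H.toGood1 hq hr0 h1.2) t u⟩
  have hfixn : ∀ j < D.rank, D.reflectRoot j r0 = r0 → ∀ c u : F, C.Tr (nG H.toGood2 (D.simple j) c) (xG H.toGood2 r0 u) := by
    intro j hj hwj c u
    exact ((hfix j hj hwj _ u).1.mul_left (hfix j hj hwj _ u).2).mul_left (hfix j hj hwj _ u).1
  -- reduction to the canonical decomposition
  have hcanon : ∀ m : ℕ, ∀ a b, D.nroots - a = m → Dec D r0 a b → ∀ t u : F, ∃ t' u' : F,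
      C.cm (xG H.toGood2 a t) (xG H.toGood2 b u) = C.cm (xG H.toGood2 a0 t') (xG H.toGood2 b0 u') := by
    intro m
    induction m using Nat.strong_induction_on with
    | _ m ih =>
      intro a b hm hab t u
      have h1 := allN_imp hall hab.ha
      rw [Bool.or_eq_true] at h1
      rcases h1 with h1 | h1
      · rw [Bool.not_eq_true', ← Bool.not_eq_true, allN_iff] at h1
        push Not at h1
        obtain ⟨i, hi, h5⟩ := h1
        rw [ne_eq, Bool.not_eq_true', Bool.not_eq_false, Bool.and_eq_true] at h5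
        have h6 := Nat.eq_of_beq_eq_true h5.1
        have h7 := blt_lt h5.2
        rw [H.wv_eq i hi r0 hr0] at h6
        rw [H.wv_eq i hi a hab.ha] at h7
        have hwa := H.w_lt i hi a hab.ha
        have hab' := Dec_w H.toGood2 hl hi hab
        rw [h6] at hab'
        obtain ⟨t', u', he⟩ := ih (D.nroots - D.reflectRoot i a) (by omega) _ _ rfl hab'
          (((eta D i a : ℤ) : F) * t) (((eta D i b : ℤ) : F) * u)
        refine ⟨t', u', ?_⟩
        rw [← he, ← nG_conj H.toGood2 hi hab.ha, ← nG_conj H.toGood2 hi hab.hb, ← C.cj_cm]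
        obtain ⟨ε, -, hε⟩ := comm_dec (F := F) H hab
        symm
        apply (hfixn i hi h6 1 (ε * (t * u))).fix
        rw [C.σ_cm, hε]
      · have h2 := allN_imp h1 hab.hb
        have h3 : decB D r0 a b = true := by
          obtain ⟨ε, hε, he⟩ := hab.eq
          unfold decB
          rw [Bool.or_eq_true, decide_eq_true_eq, decide_eq_true_eq]
          rcases hε with rfl | rfl
          · exact Or.inl he
          · exact Or.inr he
        rw [h3, Bool.not_true, Bool.false_or, Bool.and_eq_true] at h2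
        have h4 := Nat.eq_of_beq_eq_true h2.1
        have h5 := Nat.eq_of_beq_eq_true h2.2
        subst h4; subst h5
        exact ⟨t, u, rfl⟩
  -- the torus
  have hpj := H.simple_lt j0 hj0
  have htor : ∀ c : F, c ≠ 0 → ∀ t u : F, C.cm (xG H.toGood2 a0 (c * t)) (xG H.toGood2 b0 (c⁻¹ * u)) =
      C.cm (xG H.toGood2 a0 t) (xG H.toGood2 b0 u) := by
    intro c hc t u
    have h1 := hG_xG H hpj hc ha0 t
    have h2 := hG_xG H hpj hc hb0 u
    rw [pr_simple H.toGood1 hj0, hca, zpow_one] at h1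
    rw [pr_simple H.toGood1 hj0, hcb, zpow_neg_one] at h2
    rw [← h1, ← h2, ← C.cj_cm]
    obtain ⟨ε, -, hε⟩ := comm_dec (F := F) H hD0
    have h3 : C.Tr (hG H.toGood2 (D.simple j0) c) (xG H.toGood2 r0 (ε * (t * u))) :=
      (hfixn j0 hj0 hw c _).mul_left (hfixn j0 hj0 hw (-1) _)
    apply h3.fix
    rw [C.σ_cm, hε]
  have hbase : Mult.JJ H C r0 := by
    intro a b a' b' hab hab' t u t' u' he
    obtain ⟨t1, u1, h1⟩ := hcanon _ a b rfl hab t u
    obtain ⟨t2, u2, h2⟩ := hcanon _ a' b' rfl hab' t' u'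
    have h3 := congrArg σ h1
    have h4 := congrArg σ h2
    rw [C.σ_cm, C.σ_cm] at h3 h4
    rw [h3, h4] at he
    obtain ⟨ε, hε, hε'⟩ := comm_dec (F := F) H hD0
    rw [hε', hε'] at he
    have h5 := xG_injF H hr0 he
    have h6 : t1 * u1 = t2 * u2 := by
      have hε0 : ε ≠ 0 := by rcases hε with rfl | rfl <;> simp
      exact mul_left_cancel₀ hε0 h5
    rw [h1, h2]
    by_cases ht1 : t1 = 0
    · subst ht1
      rw [zero_mul] at h6
      rcases mul_eq_zero.1 h6.symm with h7 | h7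
      · rw [h7, xG_zero, C.cm_one_left, C.cm_one_left]
      · rw [h7, xG_zero, xG_zero, C.cm_one_left, C.cm_one_right]
    · by_cases hu1 : u1 = 0
      · subst hu1
        rw [mul_zero] at h6
        rcases mul_eq_zero.1 h6.symm with h7 | h7
        · rw [h7, xG_zero, xG_zero, C.cm_one_left, C.cm_one_right]
        · rw [h7, xG_zero, C.cm_one_right, C.cm_one_right]
      · have ht2 : t2 ≠ 0 := by
          rintro rfl
          rw [zero_mul] at h6
          exact mul_ne_zero ht1 hu1 h6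
        have h7 := htor (t2 / t1) (div_ne_zero ht2 ht1) t1 u1
        rw [← h7]
        congr 2
        · field_simp
        · rw [inv_div]
          field_simp
          rw [h6]
  apply root_induction (P := fun k => Mult.JJ H C k) H.toGood1
  · intro i hi r hr h
    exact JJ_w hl hi h
  · intro r hr hd
    have h1 := allN_imp hund hr
    rw [hd, Bool.false_or] at h1
    rw [Nat.eq_of_beq_eq_true h1]
    exact hbase

/-- decompositions exist -/
theorem SLData.exists_dec (S : SLData D) (H : Good D) : ∀ k < D.nroots, ∃ a b, Dec D k a b := by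
  have hl : Len2 D := S.sl.len2
  obtain ⟨r0, a0, b0, j0, hd⟩ := S.d
  unfold chkD at hd
  simp only [Bool.and_eq_true] at hd
  obtain ⟨hund, -, ⟨hr0, -, -, -, -, -, -, hdec⟩, -⟩ := hd
  have hD0 : Dec D r0 a0 b0 := S.dec_of H hdec
  apply root_induction (P := fun k => ∃ a b, Dec D k a b) H.toGood1
  · rintro i hi r hr ⟨a, b, h⟩
    have := Dec_w H.toGood2 hl hi h
    rw [H.w_w i hi r hr] at this
    exact ⟨_, _, this⟩
  · intro r hr hd
    have h1 := allN_imp hund hr
    rw [hd, Bool.false_or] at h1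
    rw [Nat.eq_of_beq_eq_true h1]
    exact ⟨a0, b0, hD0⟩

/-- the canonical lifts of the root elements -/
theorem SLData.exists_X (S : SLData D) (H : Good D) (C : CE σ) : ∃ X : ℕ → F → Γ,
    (∀ k < D.nroots, ∀ t, σ (X k t) = xG H.toGood2 k t) ∧
    ∀ k < D.nroots, ∀ a b, Dec D k a b → ∀ t u v, ⁅xG H.toGood2 a t, xG H.toGood2 b u⁆ = xG H.toGood2 k v →
      C.cm (xG H.toGood2 a t) (xG H.toGood2 b u) = X k v := by
  have h1 : ∀ k : ℕ, ∃ Y : F → Γ, k < D.nroots → (∀ t, σ (Y t) = xG H.toGood2 k t) ∧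
      ∀ a b, Dec D k a b → ∀ t u v, ⁅xG H.toGood2 a t, xG H.toGood2 b u⁆ = xG H.toGood2 k v →
      C.cm (xG H.toGood2 a t) (xG H.toGood2 b u) = Y v := by
    intro k
    by_cases hk : k < D.nroots
    · obtain ⟨a, b, hab⟩ := S.exists_dec H k hk
      obtain ⟨ε, hε, he⟩ := comm_dec (F := F) H hab
      have e1 : ∀ t : F, ε * (ε * t * 1) = t := by intro t; rcases hε with rfl | rfl <;> ring
      refine ⟨fun t => C.cm (xG H.toGood2 a (ε * t)) (xG H.toGood2 b 1), fun _ => ⟨fun t => ?_, ?_⟩⟩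
      · rw [C.σ_cm, he, e1]
      · intro a' b' hab' t u v hv
        refine S.JJ H C k hk a' b' a b hab' hab t u _ _ ?_
        rw [hv, he, e1]
    · exact ⟨fun _ => 1, fun h => absurd h hk⟩
  choose X hX using h1
  exact ⟨X, fun k hk t => (hX k hk).1 t, fun k hk a b h t u v hv => (hX k hk).2 a b h t u v hv⟩

/-- the lifted system of root elements -/
theorem SLData.exists_pre (S : SLData D) (H : Good D) (C : CE σ) :
    ∃ P : PreSt H F Γ, P.θ = (D.group F).subtype.comp σ := by
  obtain ⟨X, hσ, hX⟩ := S.exists_X H C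
  have hadd : ∀ k < D.nroots, ∀ t u, X k (t + u) = X k u * X k t := by
    intro k hk t u
    obtain ⟨a, b, hab⟩ := S.exists_dec H k hk
    obtain ⟨ε, hε, he⟩ := comm_dec (F := F) H hab
    have e1 : ∀ t : F, ε * (ε * t * 1) = t := by intro t; rcases hε with rfl | rfl <;> ring
    have h1 : ∀ t, C.cm (xG H.toGood2 a (ε * t)) (xG H.toGood2 b 1) = X k t := fun t =>
      hX k hk a b hab _ _ _ (by rw [he, e1])
    rw [← h1 (t + u), mul_add, xG_add H.toGood2 hab.ha, C.cm_mul_left, h1, h1]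
    congr 1
    exact (S.trR H C hab.ca (ε * t) u).fix (hσ k hk u)
  have hneg : ∀ k < D.nroots, ∀ t, X k (-t) = (X k t)⁻¹ := by
    intro k hk t
    have h0 : X k 0 = 1 := by
      have := hadd k hk 0 0
      rw [add_zero] at this
      exact mul_eq_left.1 this.symm
    have h1 := hadd k hk t (-t)
    rw [add_neg_cancel, h0] at h1
    exact (inv_eq_of_mul_eq_one_left h1.symm).symm
  refine ⟨{ x := X, add := ?_, comm := ?_, θ := (D.group F).subtype.comp σ, θ_x := ?_ }, rfl⟩
  · intro r hr t u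
    rw [← hadd r hr u t, add_comm]
  · intro r s hr hs h1 h2 t u
    have hl : (X s u)⁻¹ * (X r t)⁻¹ * X s u * X r t = C.cm (xG H.toGood2 s (-u)) (xG H.toGood2 r (-t)) := by
      rw [← C.cm_eq (a := X s (-u)) (b := X r (-t)) (hσ s hs _) (hσ r hr _), commutatorElement_def, hneg s hs, hneg r hr,
        inv_inv, inv_inv]
    rw [hl]
    rcases S.sl.terms r s with ⟨-, ht⟩ | ⟨k, M, hM, -, ht⟩
    · have hcp : CP D r s := ⟨hr, hs, h2, ht⟩
      have h3 : C.cm (xG H.toGood2 s (-u)) (xG H.toGood2 r (-t)) = 1 := (S.trR H C hcp (-t) (-u)).symm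
      unfold ChevalleyDatum.commWord
      rw [ht, h3]; rfl
    · have hD := S.sl.dec H ht
      unfold ChevalleyDatum.commWord
      rw [ht]
      simp only [List.map_cons, List.map_nil, List.prod_cons, List.prod_nil, mul_one, pow_one]
      rw [← C.inv_cm, hX k hD.hk r s hD (-t) (-u) ((M : F) * (t * u)) (by rw [comm_dec' H hD ht]; congr 1; ring),
        ← hneg k hD.hk]
      congr 1; ring
  · intro r hr t
    change ((σ (X r t) : ↥(D.group F)) : GL D.Idx F) = _
    rw [hσ r hr]; rfl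

end Cfsg.Agent.Mult
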