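import Cfsg.Agent.Mult.Symb
import Cfsg.Agent.Steinb.Pres

set_option autoImplicit false

/-!
Over a finite field the relations (R3) follow from (R1) and (R2).
-/

namespace Cfsg.Agent.Mult

open Cfsg.Lie Cfsg.Agent.Chev Cfsg.Agent.Steinb
open scoped commutatorElement

variable {D : ChevalleyDatum} {H : Good D} {F : Type*} [Field F] {Γ : Type*} [Group Γ] {P : PreSt H F Γ}

lemma eta_simple {i : ℕ} : eta D i (D.simple i) = -1 := by simp [eta]
lemma eta_neg_simple {i : ℕ} : eta D i (D.neg (D.simple i)) = -1 := by simp [eta]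

lemma reflect_simple (H : Good D) {i : ℕ} (hi : i < D.rank) : D.reflectRoot i (D.simple i) = D.neg (D.simple i) := by
  have hp := H.simple_lt i hi
  have hw := H.w_lt i hi _ hp
  by_contra hne
  -- compare orders: the vectors agree
  have hv : ∀ j < D.rank, vec D (D.reflectRoot i (D.simple i)) j = vec D (D.neg (D.simple i)) j := by
    intro j hj
    rw [H.vec_w i hi _ hp j hj, H.cartan_self i hi, H.neg_eq _ hp, H.vec_neg' j hj _ hp, H.vec_simple i hi j hj]
    by_cases h : j = i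
    · subst h; simp
    · rw [if_neg (Ne.symm h), if_neg h]; ring
  have h1 : ordv D (D.reflectRoot i (D.simple i)) = ordv D (D.neg (D.simple i)) := by
    unfold ordv
    apply sumN_congr
    intro k hk
    rw [hv k hk]
  have hmono : ∀ a b, a < b → b < D.nroots → ordv D a < ordv D b := by
    intro a b hab hb
    induction b, hab using Nat.le_induction with
    | base => exact H.ord_succ a hb
    | succ b hab ih => exact lt_trans (ih (by omega)) (H.ord_succ b hb)
  have hn := neg_lt H.toGood1 hp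
  rcases lt_trichotomy (D.reflectRoot i (D.simple i)) (D.neg (D.simple i)) with h | h | h
  · have := hmono _ _ h hn; omega
  · exact hne h
  · have := hmono _ _ h hw; omega

/-- rank one relations for a fundamental root -/
lemma r1_of (S : SP D) {i : ℕ} (hi : i < D.rank) : R1 (P.x (D.simple i)) (P.x (D.neg (D.simple i))) where
  X_add t u := (P.add (H.simple_lt i hi) t u).symm
  Y_add t u := (P.add (neg_lt H.toGood1 (H.simple_lt i hi)) t u).symm
  nX t v ht := by
    have hp := H.simple_lt i hi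
    have h := P.nr_conj S hi ht hp v
    rw [eta_simple, reflect_simple H hi, H.cartan_self i hi, mul_inv_eq_iff_eq_mul] at h
    have e : ((-1 : ℤ) : F) * t ^ (-(2 : ℤ)) * v = -(t⁻¹ ^ 2 * v) := by
      rw [zpow_neg]
      have : t ^ (2 : ℤ) = t ^ 2 := by norm_cast
      rw [this, inv_pow]; push_cast; ring
    rw [e] at h
    exact h
  nY t v ht := by
    have hp := H.simple_lt i hi
    have hn := neg_lt H.toGood1 hp
    have h := P.nr_conj S hi ht hn v
    have hc : D.cartan i (D.neg (D.simple i)) = -2 := by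
      have := pr_neg_right H.toGood1 hp hp
      rw [pr_simple H.toGood1 hi, pr_simple H.toGood1 hi, H.cartan_self i hi] at this
      exact this
    rw [eta_neg_simple, w_neg H.toGood1 hi hp, reflect_simple H hi, neg_neg H.toGood1 hp, hc, mul_inv_eq_iff_eq_mul] at h
    have e : ((-1 : ℤ) : F) * t ^ (-(-2 : ℤ)) * v = -(t ^ 2 * v) := by
      rw [_root_.neg_neg]
      have : t ^ (2 : ℤ) = t ^ 2 := by norm_cast
      rw [this]; push_cast; ring
    rw [e] at h
    exact h

lemma θ_hr_mul (H : Good D) (P : PreSt H F Γ) {r : ℕ} (hr : r < D.nroots) {t u : F} (ht : t ≠ 0) (hu : u ≠ 0) :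
    P.θ (P.hr r t) * P.θ (P.hr r u) = P.θ (P.hr r (t * u)) := by
  apply Units.ext
  rw [Units.val_mul, P.θ_hr hr, P.θ_hr hr, P.θ_hr hr]
  exact hMat_mul H hr ht hu

lemma central_ext (hker : P.θ.ker ≤ Subgroup.center Γ) : CE P.θ.rangeRestrict where
  surj := P.θ.rangeRestrict_surjective
  central := by rw [MonoidHom.ker_rangeRestrict]; exact hker

/-- (R3) for a fundamental root -/
theorem R3_simple [Finite F] (S : SP D) (hker : P.θ.ker ≤ Subgroup.center Γ) {i : ℕ} (hi : i < D.rank) (g : F → Γ)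
    (χ : F → ℕ → Fˣ) (hg : ∀ t, t ≠ 0 → P.TAct (g t) (χ t))
    (hχ : ∀ t, t ≠ 0 → ((chr D (χ t) (D.simple i) : Fˣ) : F) = t)
    (hmul : ∀ t t', t ≠ 0 → t' ≠ 0 → P.θ (g (t * t')) = P.θ (g t) * P.θ (g t')) {t u : F} (ht : t ≠ 0) (hu : u ≠ 0) :
    P.hr (D.simple i) t * P.hr (D.simple i) u = P.hr (D.simple i) (t * u) := by
  have hp := H.simple_lt i hi
  have R : R1 (P.x (D.simple i)) (P.x (D.neg (D.simple i))) := r1_of S hi
  have C := central_ext hker
  have hcm : ∀ a b : Γ, C.cm (P.θ.rangeRestrict a) (P.θ.rangeRestrict b) = ⁅a, b⁆ := fun a b => C.cm_σ a b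
  have hc : ∀ t u : F, t ≠ 0 → u ≠ 0 → P.hr (D.simple i) t * P.hr (D.simple i) u * (P.hr (D.simple i) (t * u))⁻¹ ∈
      Subgroup.center Γ := by
    intro t u ht hu
    apply hker
    rw [MonoidHom.mem_ker, map_mul, map_mul, map_inv, θ_hr_mul H P hp ht hu, mul_inv_cancel]
  have hneg : ∀ c, P.nr (D.simple i) (-c) = (P.nr (D.simple i) c)⁻¹ := fun c => P.nr_neg hp c
  -- the general formula
  have hform : ∀ (a : Γ) (ψ : ℕ → Fˣ) (s u : F), P.TAct a ψ → ((chr D ψ (D.simple i) : Fˣ) : F) = s →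
      ⁅a, P.hr (D.simple i) u⁆ = (P.hr (D.simple i) u * P.hr (D.simple i) s * (P.hr (D.simple i) (u * s))⁻¹)⁻¹ := by
    intro a ψ s u ha hs
    have h1 := ha.conj_nr hp u
    have h2 := ha.conj_nr hp (-1)
    rw [hs] at h1 h2
    have e1 : a * P.hr (D.simple i) u * a⁻¹ = P.nr (D.simple i) (s * u) * P.nr (D.simple i) (s * -1) := by
      rw [← h1, ← h2, PreSt.hr]; group
    rw [commutatorElement_def, e1, mul_neg_one, hneg, mul_inv_rev, mul_inv_rev, inv_inv, mul_comm u s, PreSt.hr, PreSt.hr,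
      PreSt.hr]
    group
  have hβ : ∀ t u : F, t ≠ 0 → ⁅g t, P.hr (D.simple i) u⁆ =
      (P.hr (D.simple i) u * P.hr (D.simple i) t * (P.hr (D.simple i) (u * t))⁻¹)⁻¹ :=
    fun t u ht => hform _ _ t u (hg t ht) (hχ t ht)
  have hβc : ∀ t u : F, t ≠ 0 → u ≠ 0 → ⁅g t, P.hr (D.simple i) u⁆ ∈ Subgroup.center Γ := by
    intro t u ht hu
    rw [hβ t u ht]
    exact inv_mem (hc u t hu ht)
  have hcβ : ∀ t u : F, u ≠ 0 → R.c t u = (⁅g u, P.hr (D.simple i) t⁆)⁻¹ := by
    intro t u hu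
    rw [hβ u t hu, inv_inv]; rfl
  have hcomm : ∀ {a b : Γ}, a ∈ Subgroup.center Γ → a * b = b * a := fun {a b} ha => ((Subgroup.mem_center_iff.1 ha) b).symm
  have h1l : ∀ t t' u : F, t ≠ 0 → t' ≠ 0 → u ≠ 0 → R.c (t * t') u = R.c t u * R.c t' u := by
    intro t t' u ht ht' hu
    rw [hcβ _ _ hu, hcβ _ _ hu, hcβ _ _ hu]
    have e : ⁅g u, P.hr (D.simple i) (t * t')⁆ = ⁅g u, P.hr (D.simple i) t⁆ * ⁅g u, P.hr (D.simple i) t'⁆ := by
      have e1 : P.θ.rangeRestrict (P.hr (D.simple i) (t * t')) =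
          P.θ.rangeRestrict (P.hr (D.simple i) t) * P.θ.rangeRestrict (P.hr (D.simple i) t') :=
        Subtype.ext (θ_hr_mul H P hp ht ht').symm
      rw [← hcm, e1, C.cm_mul_right, hcm, hcm, C.cj_center _ (hβc u t' hu ht')]
    rw [e, mul_inv_rev, hcomm (inv_mem (hβc u t' hu ht'))]
  have h1r : ∀ t u u' : F, t ≠ 0 → u ≠ 0 → u' ≠ 0 → R.c t (u * u') = R.c t u * R.c t u' := by
    intro t u u' ht hu hu'
    rw [hcβ _ _ (mul_ne_zero hu hu'), hcβ _ _ hu, hcβ _ _ hu']
    have e : ⁅g (u * u'), P.hr (D.simple i) t⁆ = ⁅g u', P.hr (D.simple i) t⁆ * ⁅g u, P.hr (D.simple i) t⁆ := by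
      have e1 : P.θ.rangeRestrict (g (u * u')) = P.θ.rangeRestrict (g u) * P.θ.rangeRestrict (g u') :=
        Subtype.ext (hmul u u' hu hu')
      rw [← hcm, e1, C.cm_mul_left, hcm, hcm, C.cj_center _ (hβc u' t hu' ht)]
    rw [e, mul_inv_rev]
  have hsk : ∀ t u : F, t ≠ 0 → u ≠ 0 → R.c t u = (R.c u t)⁻¹ := by
    intro t u ht hu
    have e1 := hform (P.hr (D.simple i) t) _ (t ^ 2) u (PreSt.tact_hr S hi ht) (by
      rw [chr_chiH H.toGood1 _ _ hp, pr_simple H.toGood1 hi, H.cartan_self i hi]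
      norm_cast)
    have e2 : P.hr (D.simple i) u * P.hr (D.simple i) (t ^ 2) * (P.hr (D.simple i) (u * t ^ 2))⁻¹ = R.c u (t * t) := by
      rw [← pow_two]; rfl
    rw [e2, h1r u t t hu ht ht] at e1
    have e3 : ⁅P.hr (D.simple i) t, P.hr (D.simple i) u⁆ = R.c t u * (R.c u t)⁻¹ := by
      have a1 : P.hr (D.simple i) t * P.hr (D.simple i) u = R.c t u * P.hr (D.simple i) (t * u) := by
        change _ = P.hr (D.simple i) t * P.hr (D.simple i) u * (P.hr (D.simple i) (t * u))⁻¹ * P.hr (D.simple i) (t * u)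
        group
      have a2 : P.hr (D.simple i) u * P.hr (D.simple i) t = R.c u t * P.hr (D.simple i) (t * u) := by
        rw [mul_comm t u]
        change _ = P.hr (D.simple i) u * P.hr (D.simple i) t * (P.hr (D.simple i) (u * t))⁻¹ * P.hr (D.simple i) (u * t)
        group
      have a3 : ⁅P.hr (D.simple i) t, P.hr (D.simple i) u⁆ = (P.hr (D.simple i) t * P.hr (D.simple i) u) *
          (P.hr (D.simple i) u * P.hr (D.simple i) t)⁻¹ := by rw [commutatorElement_def]; group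
      rw [a3, a1, a2]; group
    rw [e3] at e1
    have a4 : R.c t u = (R.c u t * R.c u t)⁻¹ * R.c u t := by rw [← e1]; group
    rw [a4]; group
  exact R.h_mul hc h1l h1r hsk ht hu

lemma conj_nr_w (S : SP D) {i : ℕ} (hi : i < D.rank) {r : ℕ} (hr : r < D.nroots) (c : F) :
    P.nr (D.simple i) 1 * P.nr r c * (P.nr (D.simple i) 1)⁻¹ = P.nr (D.reflectRoot i r) (((eta D i r : ℤ) : F) * c) := by
  have hn := neg_lt H.toGood1 hr
  have h1 := P.nr_conj S hi one_ne_zero hr c
  have h2 := P.nr_conj S hi one_ne_zero hn (-c⁻¹)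
  rw [one_zpow, mul_one] at h1 h2
  have e : P.nr (D.simple i) 1 * P.nr r c * (P.nr (D.simple i) 1)⁻¹ =
      (P.nr (D.simple i) 1 * P.x r c * (P.nr (D.simple i) 1)⁻¹) * (P.nr (D.simple i) 1 * P.x (D.neg r) (-c⁻¹) * (P.nr (D.simple i) 1)⁻¹) *
      (P.nr (D.simple i) 1 * P.x r c * (P.nr (D.simple i) 1)⁻¹) := by
    rw [PreSt.nr.eq_1 P r c]; group
  rw [e, h1, h2, w_neg H.toGood1 hi hr, eta_neg H.toGood1 hi hr, PreSt.nr]
  congr 3
  rcases H.eta_or hi hr with h | h <;> rw [h] <;> simp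

/-- (R3) for all roots -/
theorem R3_all (S : SP D)
    (h : ∀ i < D.rank, ∀ t u : F, t ≠ 0 → u ≠ 0 →
      P.hr (D.simple i) t * P.hr (D.simple i) u = P.hr (D.simple i) (t * u)) :
    ∀ r < D.nroots, ∀ t u : F, t ≠ 0 → u ≠ 0 → P.hr r t * P.hr r u = P.hr r (t * u) := by
  apply simple_induction H (P := fun r => ∀ t u : F, t ≠ 0 → u ≠ 0 → P.hr r t * P.hr r u = P.hr r (t * u))
  · intro i hi r hr ih t u ht hu
    have hw := H.w_lt i hi r hr
    set n := P.nr (D.simple i) 1 with hn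
    have hm1 : (-1 : F) ≠ 0 := by simp
    have hA : ∀ t u : F, t ≠ 0 → u ≠ 0 → (n * P.hr r t * n⁻¹) * (n * P.hr r u * n⁻¹) = n * P.hr r (t * u) * n⁻¹ := by
      intro t u ht hu
      rw [← ih t u ht hu]; group
    have hc : ∀ t, n * P.hr r t * n⁻¹ = P.nr (D.reflectRoot i r) (((eta D i r : ℤ) : F) * t) *
        P.nr (D.reflectRoot i r) (((eta D i r : ℤ) : F) * (-1)) := by
      intro t
      rw [← conj_nr_w S hi hr, ← conj_nr_w S hi hr, ← hn, PreSt.hr]; group
    have key : ∀ t, t ≠ 0 → n * P.hr r t * n⁻¹ = P.hr (D.reflectRoot i r) t := by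
      intro t ht
      rcases H.eta_or hi hr with he | he
      · rw [hc, he]; simp only [Int.cast_one, one_mul]; rfl
      · have h1 : n * P.hr r t * n⁻¹ = (n * P.hr r (-t) * n⁻¹) * (n * P.hr r (-1) * n⁻¹)⁻¹ := by
          rw [eq_mul_inv_iff_mul_eq, hA _ _ ht hm1, mul_neg_one]
        rw [h1, hc, hc, he]
        have e1 : ((-1 : ℤ) : F) * -t = t := by push_cast; ring
        have e2 : ((-1 : ℤ) : F) * (-1) = 1 := by push_cast; ring
        rw [e1, e2, PreSt.hr, P.nr_neg hw]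
        group
    rw [← key t ht, ← key u hu, ← key _ (mul_ne_zero ht hu), hA t u ht hu]
  · exact h

/-- torus elements acting on a fundamental root, from an adjacent fundamental root -/
theorem R3_adj [Finite F] (S : SP D) (hker : P.θ.ker ≤ Subgroup.center Γ)
    (hadj : ∀ i < D.rank, ∃ j < D.rank, D.cartan j (D.simple i) = -1) :
    ∀ r < D.nroots, ∀ t u : F, t ≠ 0 → u ≠ 0 → P.hr r t * P.hr r u = P.hr r (t * u) := by
  apply R3_all S
  intro i hi t u ht hu
  obtain ⟨j, hj, hc⟩ := hadj i hi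
  have hpi := H.simple_lt i hi
  have hpj := H.simple_lt j hj
  classical
  refine R3_simple S hker hi (fun t => (P.hr (D.simple j) t)⁻¹)
    (fun t => if h : t ≠ 0 then (fun k => (chiH D (D.simple j) (Units.mk0 t h) k)⁻¹) else fun _ => 1) ?_ ?_ ?_ ht hu
  · intro t ht
    rw [dif_pos ht]
    exact (PreSt.tact_hr S hj ht).inv
  · intro t ht
    rw [dif_pos ht, chr_inv, chr_chiH H.toGood1 _ _ hpi, pr_simple H.toGood1 hj, hc]
    simp
  · intro t t' ht ht'
    rw [map_inv, map_inv, map_inv, ← θ_hr_mul H P hpj ht ht', mul_inv_rev]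
    -- the images commute
    have e := θ_hr_mul H P hpj ht ht'
    have e' := θ_hr_mul H P hpj ht' ht
    rw [mul_comm t' t, ← e] at e'
    rw [← mul_inv_rev, ← mul_inv_rev, e']

end Cfsg.Agent.Mult
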