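import Cfsg.Agent.Mult.SL

set_option autoImplicit false
set_option maxRecDepth 100000

/-!
Kernel checks for the types E6, E7, E8.
-/

namespace Cfsg.Agent.Mult

open Cfsg.Lie Cfsg.Agent.Chev

theorem chkSL_E6 : chkSL chevE6 = true := by decide +kernel
theorem chkC_E6 : chkC chevE6 [(36, 59), (39, 69), (46, 70)] = true := by decide +kernel
theorem chkD_E6 : chkD chevE6 71 70 46 3 = true := by decide +kernel
theorem chkSL_E7 : chkSL chevE7 = true := by decide +kernel
theorem chkC_E7 : chkC chevE7 [(64, 91), (73, 123), (93, 124)] = true := by decide +kernel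
theorem chkD_E7 : chkD chevE7 125 124 93 2 = true := by decide +kernel
theorem chkSL_E8 : chkSL chevE8 = true := by decide +kernel
theorem chkC_E8 : chkC chevE8 [(162, 219), (121, 237), (120, 238)] = true := by decide +kernel
theorem chkD_E8 : chkD chevE8 239 238 120 6 = true := by decide +kernel

end Cfsg.Agent.Mult
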