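import Cfsg.Agent.Mult.SLLift
import Cfsg.Agent.Schur.Basic
import Cfsg.Agent.S3958

set_option autoImplicit false

/-!
Schur multipliers of `SL` and central quotients.
-/

namespace Cfsg.Agent.Mult

open Subgroup
open scoped commutatorElement

universe u v

/-- a group all of whose finite central extensions split has trivial multiplier -/
theorem mult_one_of_section {G : Type u} [Group G] [Finite G]
    (h : ∀ (Γ : Type u) [Group Γ] [Finite Γ] (σ : Γ →* G), CE σ → ∃ s : G →* Γ, σ.comp s = MonoidHom.id _) :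
    HasCyclicSchurMultiplier G 1 := by
  apply Schur.hasCyclicSchurMultiplier_one_of
  intro Γ _ _ σ hσ
  obtain ⟨s, hs⟩ := h Γ σ ⟨hσ.1, hσ.2.1⟩
  have hs' : ∀ g, σ (s g) = g := fun g => DFunLike.congr_fun hs g
  have hle : commutator Γ ≤ s.range := by
    rw [commutator_def, Subgroup.commutator_le]
    intro a _ b _
    have C : CE σ := ⟨hσ.1, hσ.2.1⟩
    have h1 : ⁅a, b⁆ = ⁅s (σ a), s (σ b)⁆ := by
      rw [C.cm_eq (a := a) (b := b) rfl rfl, C.cm_eq (a := s (σ a)) (b := s (σ b)) (hs' _) (hs' _)]
    rw [h1, ← map_commutatorElement]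
    exact ⟨_, rfl⟩
  rw [Subgroup.eq_bot_iff_forall]
  intro k hk
  obtain ⟨g, rfl⟩ := hle (hσ.2.2 hk)
  rw [MonoidHom.mem_ker, hs'] at hk
  rw [hk, map_one]

/-- the multiplier of a central quotient of a perfect group with trivial multiplier -/
theorem mult_of_central {G : Type u} {Q : Type u} [Group G] [Finite G] [Group Q] (hp : commutator G = ⊤)
    (hG : HasCyclicSchurMultiplier G 1) (τ : G →* Q) (hτ : Function.Surjective τ) (hc : τ.ker ≤ center G)
    {A : Type v} [CommGroup A] (e : τ.ker ≃* A) : HasSchurMultiplier Q A := by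
  have : Finite Q := Finite.of_surjective τ hτ
  have hst : IsStemExtension τ := ⟨hτ, hc, by rw [hp]; exact le_top⟩
  refine ⟨⟨G, inferInstance, inferInstance, τ, hst, ⟨e⟩⟩, ?_⟩
  intro Γ _ _ σ hσ
  obtain ⟨π, hπ⟩ := Cfsg.Agent.S3958.result τ hst hG Γ σ hσ
  exact ⟨π.comp e.symm.toMonoidHom, hπ.comp e.symm.surjective⟩

theorem card_center_sl {F : Type*} [Field F] [Finite F] (n : ℕ) (hn : 0 < n) :
    Nat.card (center (Matrix.SpecialLinearGroup (Fin n) F)) = Nat.gcd n (Nat.card F - 1) := by
  have : NeZero n := ⟨hn.ne'⟩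
  have e := Matrix.SpecialLinearGroup.center_equiv_rootsOfUnity' (R := F) (n := Fin n) ⟨0, hn⟩
  rw [Nat.card_congr e.toEquiv, Fintype.card_fin, rootsOfUnity_eq_ker, IsCyclic.card_powMonoidHom_ker, Nat.card_units,
    Nat.gcd_comm]

theorem center_sl_cyclic {F : Type*} [Field F] [Finite F] (n : ℕ) (hn : 0 < n) :
    Nonempty (center (Matrix.SpecialLinearGroup (Fin n) F) ≃* Multiplicative (ZMod (Nat.gcd n (Nat.card F - 1)))) := by
  have : NeZero n := ⟨hn.ne'⟩
  have e := Matrix.SpecialLinearGroup.center_equiv_rootsOfUnity' (R := F) (n := Fin n) ⟨0, hn⟩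
  have : IsCyclic (center (Matrix.SpecialLinearGroup (Fin n) F)) := by
    have h1 : IsCyclic (rootsOfUnity (Fintype.card (Fin n)) F) := inferInstance
    exact isCyclic_of_injective e.toMonoidHom e.injective
  have h1 := card_center_sl (F := F) n hn
  refine ⟨mulEquivOfCyclicCardEq ?_⟩
  rw [h1, Nat.card_congr Multiplicative.toAdd, Nat.card_zmod]

/-- the conditions from the cardinalities -/
theorem oksl {F : Type*} [Field F] [Finite F] (n : ℕ) (hn : 3 ≤ n) (h1 : n = 3 → Nat.card F ≠ 2 ∧ Nat.card F ≠ 4)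
    (h2 : n = 4 → Nat.card F ≠ 2) : OKSL (Fin n) F := by
  classical
  have := Fintype.ofFinite F
  have avoid : ∀ S : Finset (Fin n), S.card < n → ∃ k, k ∉ S := by
    intro S hS
    by_contra hcon
    push Not at hcon
    have : S = Finset.univ := Finset.eq_univ_iff_forall.2 hcon
    rw [this, Finset.card_univ, Fintype.card_fin] at hS
    exact lt_irrefl _ hS
  have hroots : ∀ k : ℕ, 0 < k → (∀ c : F, c ≠ 0 → c ^ k = 1) → (Nat.card F - 1) ∣ k := by
    intro k hk h
    have h3 : ∀ c : Fˣ, c ^ k = 1 := fun c => Units.ext (by push_cast; exact h c c.ne_zero)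
    obtain ⟨g, hg⟩ := IsCyclic.exists_generator (α := Fˣ)
    have h4 : orderOf g = Nat.card F - 1 := by
      rw [orderOf_eq_card_of_forall_mem_zpowers hg, Nat.card_units]
    rw [← h4]
    exact orderOf_dvd_of_pow_eq_one (h3 g)
  have hF2 : 2 ≤ Nat.card F := by
    have := Finite.one_lt_card (α := F)
    omega
  refine ⟨?_, ?_, ?_⟩
  · intro i j
    obtain ⟨k, hk⟩ := avoid {i, j} (lt_of_le_of_lt Finset.card_le_two (by omega))
    simp only [Finset.mem_insert, Finset.mem_singleton, not_or] at hk
    exact ⟨k, hk⟩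
  · by_cases h4 : 4 ≤ n
    · left
      intro i j k
      obtain ⟨l, hl⟩ := avoid {i, j, k} (lt_of_le_of_lt Finset.card_le_three (by omega))
      simp only [Finset.mem_insert, Finset.mem_singleton, not_or] at hl
      exact ⟨l, hl⟩
    · right
      obtain ⟨a1, a2⟩ := h1 (by omega)
      by_contra hcon
      push Not at hcon
      have h5 := hroots 3 (by norm_num) hcon
      have h6 := Nat.le_of_dvd (by norm_num) h5
      interval_cases h7 : Nat.card F - 1
      · omega
      · omega
      · omega
      · omega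
  · by_cases h5 : 5 ≤ n
    · left
      intro i j k l
      obtain ⟨m, hm⟩ := avoid {i, j, k, l} (lt_of_le_of_lt Finset.card_le_four (by omega))
      simp only [Finset.mem_insert, Finset.mem_singleton, not_or] at hm
      exact ⟨m, hm⟩
    · right
      have a1 : Nat.card F ≠ 2 := by
        by_cases h : n = 3
        · exact (h1 h).1
        · exact h2 (by omega)
      by_cases hex : ∃ c : F, c ≠ 0 ∧ c ^ 2 ≠ 1
      · exact Or.inl hex
      · right
        push Not at hex
        have h6 := hroots 2 (by norm_num) hex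
        have h7 := Nat.le_of_dvd (by norm_num) h6
        have h8 : Nat.card F = 3 := by omega
        have h9 : (Nat.card F : F) = 0 := by rw [Nat.card_eq_fintype_card, Nat.cast_card_eq_zero]
        refine ⟨by rw [h8] at h9; exact_mod_cast h9, fun a => ?_⟩
        by_cases ha : a = 0
        · exact Or.inl ha
        · right
          have h10 := hex a ha
          have h11 : (a - 1) * (a + 1) = 0 := by linear_combination h10
          rcases mul_eq_zero.1 h11 with h | h
          · exact Or.inl (sub_eq_zero.1 h)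
          · exact Or.inr (eq_neg_of_add_eq_zero_left h)

theorem sl_mult_one {F : Type u} [Field F] [Finite F] (n : ℕ) (hn : 3 ≤ n)
    (h1 : n = 3 → Nat.card F ≠ 2 ∧ Nat.card F ≠ 4) (h2 : n = 4 → Nat.card F ≠ 2) :
    HasCyclicSchurMultiplier (Matrix.SpecialLinearGroup (Fin n) F) 1 :=
  mult_one_of_section fun _ _ _ _ C => exists_section C (oksl n hn h1 h2)

end Cfsg.Agent.Mult
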