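import Cfsg.Agent.Mult.R3
import Cfsg.Agent.Mult.LiftSL
import Cfsg.Agent.Mult.SLData
import Cfsg.Agent.Steinb.Pres
import Cfsg.Prelude.Def_KGroupFacts

set_option autoImplicit false

/-!
Schur multipliers of the Chevalley groups from lifted Steinberg relations.
-/

namespace Cfsg.Agent.Mult

open Cfsg Cfsg.Lie Cfsg.Agent.Chev Cfsg.Agent.Steinb Cfsg.Agent.ChevGrp
open scoped commutatorElement

universe u

section hom

variable {D : ChevalleyDatum} {H : Good D} {F : Type*} [Field F] {Γ : Type*} [Group Γ] (P : PreSt H F Γ)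

/-- evaluation -/
noncomputable def evP : FreeGroup (Fin D.nroots × F) →* Γ := FreeGroup.lift fun p => P.x p.1 p.2

lemma evP_stX {r : ℕ} (hr : r < D.nroots) (t : F) : evP P (D.stX r t) = P.x r t := by
  simp [evP, ChevalleyDatum.stX, hr]

lemma evP_word : ∀ w : List (ℕ × F), (∀ p ∈ w, p.1 < D.nroots) → evP P (D.stWord w) = (w.map fun p => P.x p.1 p.2).prod
  | [], _ => by simp [ChevalleyDatum.stWord]
  | p :: w, h => by
      have h1 : D.stWord (p :: w) = D.stX p.1 p.2 * D.stWord w := by simp [ChevalleyDatum.stWord]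
      rw [h1, map_mul, evP_stX P (h p (by simp)), evP_word w (fun q hq => h q (by simp [hq])), List.map_cons,
        List.prod_cons]

/-- a system satisfying (R1), (R2), (R3) receives a homomorphism from the Steinberg group -/
theorem exists_hom (h3 : ∀ r < D.nroots, ∀ t u : F, t ≠ 0 → u ≠ 0 → P.hr r t * P.hr r u = P.hr r (t * u)) :
    ∃ φ : D.SteinbergGroup F →* Γ, ∀ r < D.nroots, ∀ t, φ (D.stGen F r t) = P.x r t := by
  have hrel : ∀ g ∈ D.steinbergRels F, evP P g = 1 := by
    rintro g ((⟨r, t₁, t₂, hr, rfl⟩ | ⟨r, s, t, u, hr, hs, h1, h2, rfl⟩) | ⟨r, t₁, t₂, hr, ht₁, ht₂, rfl⟩)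
    · rw [map_mul, map_inv, mul_inv_eq_one, map_mul, evP_stX P hr, evP_stX P hr, evP_stX P hr, P.add hr]
    · rw [map_mul, map_inv, mul_inv_eq_one, map_mul, map_mul, map_mul, map_inv, map_inv, evP_stX P hr, evP_stX P hs,
        P.comm hr hs h1 h2, evP_word]
      intro p hp
      unfold ChevalleyDatum.commWord at hp
      obtain ⟨c, hc, rfl⟩ := List.mem_map.1 hp
      exact ((H.pairOK hr hs h1 h2).terms c hc).1
    · have hn := neg_lt H.toGood1 hr
      have hw : ∀ t : F, evP P (D.stH r t) = P.hr r t := by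
        intro t
        unfold ChevalleyDatum.stH
        rw [evP_word]
        · simp only [ChevalleyDatum.hWord, ChevalleyDatum.nWord, PreSt.hr, PreSt.nr, List.map_append, List.map_cons,
            List.map_nil, List.prod_append, List.prod_cons, List.prod_nil, mul_one, mul_assoc]
        · intro p hp
          simp only [ChevalleyDatum.hWord, ChevalleyDatum.nWord, List.mem_append, List.mem_cons, List.not_mem_nil,
            or_false] at hp
          rcases hp with (rfl | rfl | rfl) | (rfl | rfl | rfl) <;> assumption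
      rw [map_mul, map_inv, mul_inv_eq_one, map_mul, hw, hw, hw, h3 r hr t₁ t₂ ht₁ ht₂]
  refine ⟨PresentedGroup.toGroup (f := fun p : Fin D.nroots × F => P.x p.1 p.2) hrel, fun r hr t => ?_⟩
  have h1 : D.stX r t = FreeGroup.of ((⟨r, hr⟩ : Fin D.nroots), t) := by simp [ChevalleyDatum.stX, hr]
  unfold ChevalleyDatum.stGen
  rw [h1]
  exact PresentedGroup.toGroup.of hrel

end hom

/-- a finite stem extension of the Chevalley group is a quotient of the Steinberg group -/
theorem stem_of_lift {D : ChevalleyDatum} {H : Good D} {F : Type*} [Field F] {Γ : Type*} [Group Γ]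
    {σ : Γ →* ↥(D.group F)} (hσ : IsStemExtension σ) (P : PreSt H F Γ) (hP : P.θ = (D.group F).subtype.comp σ)
    (h3 : ∀ r < D.nroots, ∀ t u : F, t ≠ 0 → u ≠ 0 → P.hr r t * P.hr r u = P.hr r (t * u))
    {θ : D.SteinbergGroup F →* ↥(D.group F)} (hθ : Function.Surjective θ)
    (hθx : ∀ (r : ℕ) (t : F), r < D.nroots → ((θ (D.stGen F r t) : GL D.Idx F) : Matrix D.Idx D.Idx F) = D.x F r t) :
    ∃ π : θ.ker →* σ.ker, Function.Surjective π := by
  obtain ⟨φ, hφ⟩ := exists_hom P h3
  have hcomp : σ.comp φ = θ := by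
    apply PresentedGroup.ext
    rintro ⟨r, t⟩
    have h1 : (PresentedGroup.of (r, t) : D.SteinbergGroup F) = D.stGen F r t := by
      unfold ChevalleyDatum.stGen
      have : D.stX (r : ℕ) t = FreeGroup.of (r, t) := by simp [ChevalleyDatum.stX]
      rw [this]; rfl
    rw [h1, MonoidHom.comp_apply, hφ r r.2]
    apply Subtype.ext
    apply Units.ext
    rw [hθx r t r.2]
    have h2 := P.θ_coe r.2 t
    rw [hP] at h2
    exact h2
  have hsurj : Function.Surjective φ := by
    rw [← MonoidHom.range_eq_top, eq_top_iff]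
    have h1 : commutator Γ ≤ φ.range := by
      rw [commutator_def, Subgroup.commutator_le]
      intro a _ b _
      obtain ⟨x, hx⟩ := hθ (σ a)
      obtain ⟨y, hy⟩ := hθ (σ b)
      rw [← hcomp, MonoidHom.comp_apply] at hx hy
      have C : CE σ := ⟨hσ.1, hσ.2.1⟩
      rw [← C.cm_σ, ← hx, ← hy, C.cm_σ, ← map_commutatorElement]
      exact ⟨_, rfl⟩
    intro a _
    obtain ⟨x, hx⟩ := hθ (σ a)
    rw [← hcomp, MonoidHom.comp_apply] at hx
    have h2 : (φ x)⁻¹ * a ∈ σ.ker := by rw [MonoidHom.mem_ker, map_mul, map_inv, hx, inv_mul_cancel]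
    have h3 := h1 (hσ.2.2 h2)
    have h4 : a = φ x * ((φ x)⁻¹ * a) := by group
    rw [h4]
    exact mul_mem ⟨x, rfl⟩ h3
  refine ⟨(φ.comp θ.ker.subtype).codRestrict σ.ker (fun x => ?_), ?_⟩
  · rw [MonoidHom.mem_ker, MonoidHom.comp_apply]
    have h5 : θ (x : D.SteinbergGroup F) = 1 := x.2
    rw [← DFunLike.congr_fun hcomp (x : D.SteinbergGroup F)] at h5
    exact h5
  · rintro ⟨a, ha⟩
    obtain ⟨x, rfl⟩ := hsurj a
    have h5 : θ x = 1 := by
      rw [← DFunLike.congr_fun hcomp x]
      exact ha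
    exact ⟨⟨x, h5⟩, Subtype.ext rfl⟩

/-- the Steinberg group of a simply laced type is perfect -/
theorem SLData.perfect {D : ChevalleyDatum} (S : SLData D) (H : Good D) {F : Type*} [Field F] {Γ : Type*} [Group Γ]
    (P : PreSt H F Γ) (hG : P.Gen) : commutator Γ = ⊤ := by
  rw [eq_top_iff]
  have h1 : (⊤ : Subgroup Γ) = P.gen (fun _ => True) := hG.symm
  rw [h1, P.gen_le]
  intro k hk _ t
  obtain ⟨a, b, hab⟩ := S.exists_dec H k hk
  obtain ⟨ε, hε, he⟩ := hab.eq
  have h2 := P.comm hab.ha hab.hb hab.ne hab.nneg (-((ε : F) * t)) 1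
  unfold ChevalleyDatum.commWord at h2
  rw [he] at h2
  simp only [List.map_cons, List.map_nil, List.prod_cons, List.prod_nil, mul_one, pow_one] at h2
  have e : (ε : F) * - -((ε : F) * t) = t := by rcases hε with rfl | rfl <;> simp
  rw [e] at h2
  rw [← h2, commutator_def]
  have h3 : (P.x b 1)⁻¹ * (P.x a (-((ε : F) * t)))⁻¹ * P.x b 1 * P.x a (-((ε : F) * t)) =
      ⁅(P.x b 1)⁻¹, (P.x a (-((ε : F) * t)))⁻¹⁆ := by rw [commutatorElement_def, inv_inv, inv_inv]
  rw [h3]
  exact Subgroup.commutator_mem_commutator (Subgroup.mem_top _) (Subgroup.mem_top _)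

/-- Schur multiplier from the lifting of the Steinberg relations -/
theorem hasSchurMultiplier_of {D : ChevalleyDatum} (hD : D ∈ data) {F : Type u} [Field F] [Finite F]
    (hfin : Finite (Subgroup.center (D.SteinbergGroup F)))
    (hperf : commutator (D.SteinbergGroup F) = ⊤)
    (hlift : ∀ (Γ : Type u) [Group Γ] (σ : Γ →* ↥(D.group F)), CE σ → ∃ P : PreSt (good_of_mem hD) F Γ,
      P.θ = (D.group F).subtype.comp σ ∧
        ∀ r < D.nroots, ∀ t u : F, t ≠ 0 → u ≠ 0 → P.hr r t * P.hr r u = P.hr r (t * u))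
    {A : Type*} [CommGroup A] (e : A ≃* Subgroup.center (D.SteinbergGroup F)) :
    HasSchurMultiplier ↥(D.group F) A := by
  obtain ⟨E⟩ := DData.nonempty_of_mem hD
  have S := sp_of_mem hD
  let P := preOf (good_of_mem hD) (D.steinbergRels F) (relsAB_sub D F) (fX_rels (good_of_mem hD))
  have hG : P.Gen := preOf_gen (good_of_mem hD) (D.steinbergRels F) _ _
  have hker : (P.θG hG).ker = Subgroup.center (D.SteinbergGroup F) := by
    rw [P.θG_ker hG]; exact PreSt.ker_eq_center S E hG
  have hsurj := P.θG_surjective hG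
  have hx : ∀ (r : ℕ) (t : F), r < D.nroots →
      ((P.θG hG (D.stGen F r t) : GL D.Idx F) : Matrix D.Idx D.Idx F) = D.x F r t := fun r t hr => by
    rw [P.θG_coe hG]; exact P.θ_coe hr t
  constructor
  · have hfin2 : Finite (D.SteinbergGroup F) := by
      have hf1 : Finite (P.θG hG).ker := by rw [hker]; exact hfin
      have hf2 : Finite ↥(D.group F) := inferInstance
      have hf3 : Finite (D.SteinbergGroup F ⧸ (P.θG hG).ker) :=
        Finite.of_equiv _ (QuotientGroup.quotientKerEquivOfSurjective _ hsurj).symm.toEquiv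
      exact Finite.of_equiv _ (Subgroup.groupEquivQuotientProdSubgroup (s := (P.θG hG).ker)).symm
    refine ⟨D.SteinbergGroup F, inferInstance, hfin2, P.θG hG, ⟨hsurj, hker.le, ?_⟩, ?_⟩
    · rw [hperf]; exact le_top
    · exact ⟨(MulEquiv.subgroupCongr hker).trans e.symm⟩
  · intro Γ _ _ σ hσ
    obtain ⟨P', hP', h3⟩ := hlift Γ σ ⟨hσ.1, hσ.2.1⟩
    obtain ⟨π, hπ⟩ := stem_of_lift hσ P' hP' h3 hsurj hx
    exact ⟨π.comp ((MulEquiv.subgroupCongr hker).symm.toMonoidHom.comp e.toMonoidHom),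
      hπ.comp ((MulEquiv.subgroupCongr hker).symm.surjective.comp e.surjective)⟩

end Cfsg.Agent.Mult
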